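import Groth.Prelude.Def_QuadSing
import Groth.Agent.Lib.PSIdeal.Basic
import Groth.Agent.Lib.H2Alg.PSHom
import Mathlib.RingTheory.MvPowerSeries.Derivative
import Mathlib.LinearAlgebra.Matrix.NonsingularInverse

/-! # The second order jet of a power series and its behaviour under isomorphisms of quotients -/

set_option autoImplicit false
set_option linter.style.haveILetI false
universe u

open MvPowerSeries

namespace Groth.Agent.QuadSing19

variable {k : Type u} [Field k] {n : ℕ}

local notation "S" => MvPowerSeries (Fin n) k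

/-- The linear coefficients. -/
noncomputable def lin (v : MvPowerSeries (Fin n) k) : Fin n → k := fun l => coeff (Finsupp.single l 1) v

/-- The matrix of second partial derivatives at the origin. -/
noncomputable def hess (g : MvPowerSeries (Fin n) k) : Matrix (Fin n) (Fin n) k :=
  fun j l => coeff (Finsupp.single l 1) (pderiv k j g)

theorem coeff_single_mul (p q : S) (l : Fin n) :
    coeff (Finsupp.single l 1) (p * q) = constantCoeff p * lin q l + lin p l * constantCoeff q := by
  classical
  rw [coeff_mul, Finsupp.antidiagonal_single]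
  simp [Finset.Nat.antidiagonal_succ, lin, coeff_zero_eq_constantCoeff_apply]

theorem constantCoeff_pderiv (v : S) (j : Fin n) : constantCoeff (pderiv k j v) = lin v j := by
  rw [← coeff_zero_eq_constantCoeff_apply, coeff_pderiv]
  simp [lin]

/-- The Hessian is the Gram matrix of the polar form of the quadratic part. -/
theorem hess_eq_polarMatrix (g : S) : hess g = VanCyc.polarMatrix (VanCyc.quadPart g) := by
  classical
  ext i j
  rw [hess, coeff_pderiv]
  simp only [VanCyc.polarMatrix, VanCyc.quadPart]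
  rcases lt_trichotomy i j with h | h | h
  · rw [if_neg h.ne, if_pos h, add_comm (Finsupp.single j 1)]
    simp [h.ne', h.ne, h]
  · subst h
    rw [if_pos rfl, ← Finsupp.single_add]; simp [mul_comm]; norm_num
  · rw [if_neg h.ne', if_neg (not_lt.mpr h.le), if_neg h.ne, if_pos h]
    simp [h.ne]

theorem hess_mul (u v : S) (hu : constantCoeff u = 0) (hv : constantCoeff v = 0) :
    hess (u * v) = Matrix.vecMulVec (lin u) (lin v) + Matrix.vecMulVec (lin v) (lin u) := by
  ext j l
  rw [hess, Derivation.leibniz, smul_eq_mul, smul_eq_mul, map_add, coeff_single_mul, coeff_single_mul, hu, hv,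
    constantCoeff_pderiv, constantCoeff_pderiv, Matrix.add_apply, Matrix.vecMulVec_apply, Matrix.vecMulVec_apply]
  ring

theorem hess_sum {ι : Type*} (s : Finset ι) (f : ι → S) : hess (∑ i ∈ s, f i) = ∑ i ∈ s, hess (f i) := by
  ext j l
  rw [Matrix.sum_apply]
  simp [hess]

theorem hess_mul_of_sq (c g : S) (hg : constantCoeff g = 0) (hg1 : ∀ i, lin g i = 0) :
    hess (c * g) = constantCoeff c • hess g := by
  ext j l
  rw [hess, Derivation.leibniz, smul_eq_mul, smul_eq_mul, map_add, coeff_single_mul, coeff_single_mul, hg, hg1,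
    constantCoeff_pderiv, hg1, Matrix.smul_apply, smul_eq_mul]
  simp [hess, lin]

theorem lin_X (i : Fin n) : lin (X i : S) = Pi.single i 1 := by
  classical
  ext l
  simp [lin, coeff_X, Pi.single_apply, Finsupp.single_eq_single_iff, eq_comm]

theorem lin_eq_zero_of_mem_sq {v : S} (hv : v ∈ PSIdeal.varIdeal (Fin n) k ^ 2) (l : Fin n) : lin v l = 0 :=
  H2Alg.PSHom.coeff_eq_zero_of_mem_pow hv (by simp)

/-- Linear parts transform linearly. -/
theorem lin_map (Φ : S →ₐ[k] S) (hΦ : ∀ i, constantCoeff (Φ (X i)) = 0) (v : S) (hv : constantCoeff v = 0) :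
    constantCoeff (Φ v) = 0 ∧ ∀ l, lin (Φ v) l = ∑ i, lin v i * lin (Φ (X i)) l := by
  obtain ⟨g, hvg, hg⟩ := PSIdeal.exists_eq_sum_X_mul hv
  subst hvg
  refine ⟨by simp [map_sum, hΦ], fun l => ?_⟩
  simp only [map_sum, map_mul]
  rw [lin, map_sum]
  refine Finset.sum_congr rfl fun i _ => ?_
  rw [coeff_single_mul, hΦ i, zero_mul, zero_add, mul_comm, show lin (∑ j, X j * g j) i = constantCoeff (g i) from (hg i).symm]
  congr 1
  have h0 : constantCoeff (g i - C (constantCoeff (g i))) = 0 := by simp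
  obtain ⟨g', hg', -⟩ := PSIdeal.exists_eq_sum_X_mul h0
  have : Φ (g i) = Φ (∑ j, X j * g' j) + algebraMap k S (constantCoeff (g i)) := by
    rw [← hg', map_sub, ← c_eq_algebraMap, show Φ (C (constantCoeff (g i))) = C (constantCoeff (g i)) from by
      rw [c_eq_algebraMap, AlgHom.commutes], sub_add_cancel]
  rw [this, map_add, map_sum, map_sum]
  rw [← c_eq_algebraMap]
  simp [hΦ]

/-- The Hessian transforms as a quadratic form. -/
theorem hess_map (Φ : S →ₐ[k] S) (hΦ : ∀ i, constantCoeff (Φ (X i)) = 0) (h : S) (h0 : constantCoeff h = 0)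
    (h1 : ∀ i, lin h i = 0) :
    hess (Φ h) = (Matrix.of fun i l => lin (Φ (X i)) l).transpose * hess h * Matrix.of fun i l => lin (Φ (X i)) l := by
  obtain ⟨p, hp, hp'⟩ := PSIdeal.exists_eq_sum_X_mul h0
  have hpc : ∀ i, constantCoeff (p i) = 0 := fun i => (hp' i).trans (h1 i)
  subst hp
  set A : Matrix (Fin n) (Fin n) k := Matrix.of fun i l => lin (Φ (X i)) l with hA
  rw [map_sum, hess_sum, hess_sum, Matrix.mul_sum, Matrix.sum_mul]
  refine Finset.sum_congr rfl fun i _ => ?_
  have hX : (Pi.single i 1 : Fin n → k) = lin (X i : S) := (lin_X i).symm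
  rw [map_mul, hess_mul _ _ (hΦ i) (lin_map Φ hΦ _ (hpc i)).1, hess_mul _ _ (constantCoeff_X i) (hpc i)]
  have e1 : lin (Φ (p i)) = Matrix.vecMul (lin (p i)) A := by
    ext l
    rw [(lin_map Φ hΦ _ (hpc i)).2]
    rfl
  have e2 : lin (Φ (X i)) = Matrix.vecMul (lin (X i : S)) A := by
    rw [← hX, Matrix.single_one_vecMul]
    rfl
  rw [e1, e2, Matrix.mul_add, Matrix.add_mul, Matrix.mul_vecMulVec, Matrix.mul_vecMulVec, Matrix.vecMulVec_mul,
    Matrix.vecMulVec_mul, Matrix.mulVec_transpose, Matrix.mulVec_transpose]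

/-- The non-degeneracy of the quadratic part only depends on the quotient ring. -/
theorem isUnit_det_hess_of_algEquiv (g h : S) (hg0 : constantCoeff g = 0) (hg1 : ∀ i, lin g i = 0)
    (hh0 : constantCoeff h = 0) (hh1 : ∀ i, lin h i = 0)
    (ψ : (S ⧸ Ideal.span {h}) ≃ₐ[k] S ⧸ Ideal.span {g})
    (hM : IsUnit (hess h).det) : IsUnit (hess g).det := by
  classical
  have hcst : ∀ z : S ⧸ Ideal.span {h}, ¬ IsUnit z ↔ ¬ IsUnit (ψ z) := fun z => by
    rw [MulEquiv.isUnit_map ψ]
  have hunit : ∀ (g : S), constantCoeff g = 0 → ∀ x : S, IsUnit (Ideal.Quotient.mk (Ideal.span {g}) x) ↔ constantCoeff x ≠ 0 := by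
    intro g hg x
    constructor
    · intro hu h0
      obtain ⟨y, hy⟩ := Ideal.Quotient.mk_surjective (hu.unit⁻¹ : (S ⧸ Ideal.span {g})ˣ).1
      have h2 : Ideal.Quotient.mk (Ideal.span {g}) (x * y) = Ideal.Quotient.mk _ 1 := by
        rw [map_mul, hy, map_one, hu.mul_val_inv]
      obtain ⟨c, hc⟩ := Ideal.mem_span_singleton'.1 (Ideal.Quotient.eq.1 h2)
      have := congrArg constantCoeff hc
      simp [hg, h0] at this
    · intro h0
      exact (isUnit_iff_constantCoeff.2 (isUnit_iff_ne_zero.2 h0)).map _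
  choose a ha using fun i => Ideal.Quotient.mk_surjective (ψ (Ideal.Quotient.mk _ (X i)))
  have ha0 : ∀ i, constantCoeff (a i) = 0 := fun i => by
    by_contra hne
    have := (hunit g hg0 (a i)).2 hne
    rw [ha, MulEquiv.isUnit_map ψ, hunit h hh0] at this
    exact this (constantCoeff_X i)
  haveI : IsAdicComplete (H2Alg.PSHom.V n k) S := { toIsHausdorff := inferInstance, toIsPrecomplete := inferInstance }
  obtain ⟨Φ, hΦ⟩ := H2Alg.PSHom.exists_algHom (A := k) (H2Alg.PSHom.V n k) a
    (fun i => PSIdeal.mem_varIdeal (ha0 i))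
  have hΦ0 : ∀ i, constantCoeff (Φ (X i)) = 0 := fun i => by rw [hΦ]; exact ha0 i
  haveI : IsHausdorff ((H2Alg.PSHom.V n k).map (Ideal.Quotient.mk (Ideal.span {g}))) (S ⧸ Ideal.span {g}) := by
    haveI : IsLocalRing (S ⧸ Ideal.span {g}) := by
      haveI : Nontrivial (S ⧸ Ideal.span {g}) := Ideal.Quotient.nontrivial_iff.2 fun e => by
        obtain ⟨c, hc⟩ := Ideal.mem_span_singleton'.1 (e ▸ Submodule.mem_top : (1 : S) ∈ Ideal.span {g})
        have := congrArg constantCoeff hc
        simp [hg0] at this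
      exact IsLocalRing.of_surjective' _ Ideal.Quotient.mk_surjective
    have e : (H2Alg.PSHom.V n k).map (Ideal.Quotient.mk (Ideal.span {g})) = IsLocalRing.maximalIdeal (S ⧸ Ideal.span {g}) := by
      rw [show H2Alg.PSHom.V n k = PSIdeal.varIdeal (Fin n) k from rfl, PSIdeal.varIdeal_eq_maximalIdeal,
        IsLocalRing.map_maximalIdeal_of_surjective _ Ideal.Quotient.mk_surjective]
    rw [e]
    exact IsHausdorff.of_isLocalRing _ _ (IsLocalRing.maximalIdeal.isMaximal _).ne_top
  have hcomp : (Ideal.Quotient.mkₐ k (Ideal.span {g})).comp Φ = ψ.toAlgHom.comp (Ideal.Quotient.mkₐ k (Ideal.span {h})) := by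
    refine H2Alg.PSHom.algHom_ext ((H2Alg.PSHom.V n k).map (Ideal.Quotient.mk (Ideal.span {g}))) (fun i => ?_) fun i => ?_
    · show Ideal.Quotient.mk _ (Φ (X i)) ∈ _
      exact Ideal.mem_map_of_mem _ (PSIdeal.mem_varIdeal (hΦ0 i))
    · show Ideal.Quotient.mk _ (Φ (X i)) = ψ (Ideal.Quotient.mk _ (X i))
      rw [hΦ]; exact ha i
  have hmem : Φ h ∈ Ideal.span {g} := by
    have := DFunLike.congr_fun hcomp h
    simp only [AlgHom.comp_apply, Ideal.Quotient.mkₐ_eq_mk] at this
    rw [← Ideal.Quotient.eq_zero_iff_mem, this, Ideal.Quotient.eq_zero_iff_mem.2 (Ideal.mem_span_singleton_self h), map_zero]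
  obtain ⟨c, hc⟩ := Ideal.mem_span_singleton'.1 hmem
  set A : Matrix (Fin n) (Fin n) k := Matrix.of fun i l => lin (Φ (X i)) l with hA
  have key : constantCoeff c • hess g = A.transpose * hess h * A := by
    rw [← hess_mul_of_sq c g hg0 hg1, hc, hess_map Φ hΦ0 h hh0 hh1]
  -- the linear part is invertible
  choose b hb using fun i => Ideal.Quotient.mk_surjective (ψ.symm (Ideal.Quotient.mk _ (X i)))
  have hAu : IsUnit A.det := by
    refine Matrix.isUnit_det_of_left_inverse (B := Matrix.of fun j i => lin (b j) i) ?_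
    ext j l
    have hb0 : constantCoeff (b j) = 0 := by
      by_contra hne
      have := (hunit h hh0 (b j)).2 hne
      rw [hb, MulEquiv.isUnit_map ψ.symm, hunit g hg0] at this
      exact this (constantCoeff_X j)
    have hd : Φ (b j) - X j ∈ Ideal.span {g} := by
      rw [← Ideal.Quotient.eq_zero_iff_mem, map_sub]
      have := DFunLike.congr_fun hcomp (b j)
      simp only [AlgHom.comp_apply, Ideal.Quotient.mkₐ_eq_mk] at this
      rw [this, hb]
      simp
    obtain ⟨d, hd⟩ := Ideal.mem_span_singleton'.1 hd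
    have := congrArg (fun x => lin x l) hd
    simp only [lin, map_sub] at this
    rw [coeff_single_mul, hg0, hg1, mul_zero, mul_zero, add_zero] at this
    have h2 := sub_eq_zero.1 this.symm
    rw [Matrix.mul_apply]
    refine ((lin_map Φ hΦ0 (b j) hb0).2 l).symm.trans (h2.trans ?_)
    show lin (X j : S) l = _
    rw [lin_X]
    simp [Matrix.one_apply, Pi.single_apply, eq_comm]
  have hdet : IsUnit (constantCoeff c • hess g).det := by
    rw [key, Matrix.det_mul, Matrix.det_mul, Matrix.det_transpose]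
    exact (hAu.mul hM).mul hAu
  rw [Matrix.det_smul] at hdet
  exact isUnit_of_mul_isUnit_right hdet

end Groth.Agent.QuadSing19
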