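import Groth.Agent.Lib.QuadSing19.Solve
import Groth.Agent.Lib.MulEtale20.Basic
import Mathlib.LinearAlgebra.Matrix.ToLin
import Mathlib.FieldTheory.IsAlgClosed.Basic
import Mathlib.LinearAlgebra.Matrix.NonsingularInverse

/-! # Ordinary quadratic singularities are isomorphic to their cones -/

set_option autoImplicit false
set_option linter.style.haveILetI false
universe u

open MvPowerSeries

namespace Groth.Agent.QuadSing19

variable {k : Type u} [Field k] {n : ℕ}

local notation "V" => PSIdeal.varIdeal (Fin n) k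

theorem coeff_double_mul (u v : MvPowerSeries (Fin n) k) (hu : constantCoeff u = 0) (hv : constantCoeff v = 0) (i : Fin n) :
    coeff (Finsupp.single i 2) (u * v) = lin u i * lin v i := by
  classical
  rw [coeff_mul, Finsupp.antidiagonal_single]
  simp [Finset.Nat.antidiagonal_succ, lin, hu, hv]

theorem mem_cube_iff_forall (h : MvPowerSeries (Fin n) k) (h0 : constantCoeff h = 0) (h1 : ∀ i, lin h i = 0)
    (h2 : ∀ i, coeff (Finsupp.single i 2) h = 0) (hh : hess h = 0) : h ∈ V ^ 3 := by
  classical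
  refine PSIdeal.mem_varIdeal_cube fun d hd => ?_
  by_cases hd0 : d = 0
  · subst hd0; simpa using h0
  obtain ⟨i, hi⟩ : ∃ i, d i ≠ 0 := by
    by_contra hne; push Not at hne; exact hd0 (Finsupp.ext hne)
  obtain ⟨e, rfl⟩ : ∃ e, d = e + Finsupp.single i 1 :=
    ⟨d - Finsupp.single i 1, (tsub_add_cancel_of_le (Finsupp.single_le_iff.2 (Nat.one_le_iff_ne_zero.2 hi))).symm⟩
  rw [map_add, Finsupp.degree_single] at hd
  by_cases he0 : e = 0
  · subst he0; rw [zero_add]; exact h1 i
  obtain ⟨j, hj⟩ : ∃ j, e j ≠ 0 := by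
    by_contra hne; push Not at hne; exact he0 (Finsupp.ext hne)
  obtain rfl : e = Finsupp.single j 1 := by
    have hle : Finsupp.single j 1 ≤ e := Finsupp.single_le_iff.2 (Nat.one_le_iff_ne_zero.2 hj)
    have hdeg := congrArg Finsupp.degree (tsub_add_cancel_of_le hle)
    rw [map_add, Finsupp.degree_single] at hdeg
    have hz : e - Finsupp.single j 1 = 0 := (Finsupp.degree_eq_zero_iff _).1 (by omega)
    rw [← tsub_add_cancel_of_le hle, hz, zero_add]
  rcases eq_or_ne i j with rfl | hij
  · rw [← Finsupp.single_add]; exact h2 i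
  · have h := congrFun (congrFun hh i) j
    rw [hess, coeff_pderiv] at h
    simpa [hij, hij.symm] using h

/-- Evaluation of a scalar table at series. -/
noncomputable def qEval (b : Fin n → Fin n → k) {T : Type u} [CommRing T] [Algebra k T] (y : Fin n → T) : T :=
  VanCyc.quadEval (fun i j => algebraMap k T (b i j)) y

theorem qEval_map {T U : Type u} [CommRing T] [Algebra k T] [CommRing U] [Algebra k U] (φ : T →ₐ[k] U)
    (b : Fin n → Fin n → k) (y : Fin n → T) : φ (qEval b y) = qEval b (fun i => φ (y i)) := by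
  simp only [qEval, VanCyc.quadEval, map_sum, apply_ite φ, map_zero, map_mul, AlgHom.commutes]

theorem constantCoeff_qEval (b : Fin n → Fin n → k) (y : Fin n → MvPowerSeries (Fin n) k)
    (hy : ∀ i, constantCoeff (y i) = 0) : constantCoeff (qEval b y) = 0 := by
  simp [qEval, VanCyc.quadEval, map_sum, apply_ite (constantCoeff (σ := Fin n) (R := k)), hy]

theorem lin_qEval (b : Fin n → Fin n → k) (y : Fin n → MvPowerSeries (Fin n) k)
    (hy : ∀ i, constantCoeff (y i) = 0) (l : Fin n) : lin (qEval b y) l = 0 := by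
  simp only [lin, qEval, VanCyc.quadEval, map_sum, apply_ite (coeff (R := k) (Finsupp.single l 1)), map_zero]
  refine Finset.sum_eq_zero fun i _ => Finset.sum_eq_zero fun j _ => ?_
  split
  · rw [coeff_single_mul, map_mul, hy i, hy j]; ring
  · rfl

theorem coeff_double_qEval (b : Fin n → Fin n → k) (y : Fin n → MvPowerSeries (Fin n) k)
    (hy : ∀ i, constantCoeff (y i) = 0) (l : Fin n) :
    coeff (Finsupp.single l 2) (qEval b y) = VanCyc.quadEval b (fun i => lin (y i) l) := by
  simp only [qEval, VanCyc.quadEval, map_sum, apply_ite (coeff (R := k) (Finsupp.single l 2)), map_zero]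
  refine Finset.sum_congr rfl fun i _ => Finset.sum_congr rfl fun j _ => ?_
  split
  · rw [mul_assoc, ← c_eq_algebraMap, coeff_C_mul, coeff_double_mul _ _ (hy i) (hy j), mul_assoc]
  · rfl

theorem hess_qEval (b : Fin n → Fin n → k) :
    hess (qEval b (fun i => (X i : MvPowerSeries (Fin n) k))) = VanCyc.polarMatrix b := by
  classical
  rw [qEval, VanCyc.quadEval, hess_sum]
  simp only [hess_sum]
  have : ∀ i j, hess (if i ≤ j then algebraMap k (MvPowerSeries (Fin n) k) (b i j) * X i * X j else 0) =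
      if i ≤ j then b i j • (Matrix.vecMulVec (Pi.single i 1) (Pi.single j 1) + Matrix.vecMulVec (Pi.single j 1) (Pi.single i 1)) else 0 := by
    intro i j
    split
    · rw [hess_mul _ _ (by simp) (constantCoeff_X j), ← lin_X, ← lin_X]
      have : lin (algebraMap k (MvPowerSeries (Fin n) k) (b i j) * X i) = b i j • lin (X i : MvPowerSeries (Fin n) k) := by
        ext l
        simp [lin, ← c_eq_algebraMap, coeff_C_mul]
      rw [this, Matrix.smul_vecMulVec, Matrix.vecMulVec_smul, smul_add]
    · ext a c; simp [hess]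
  simp only [this]
  ext r s
  simp only [Matrix.sum_apply, apply_ite (fun M : Matrix (Fin n) (Fin n) k => M r s), Matrix.smul_apply,
    Matrix.add_apply, Matrix.vecMulVec_apply, Matrix.zero_apply, smul_eq_mul, Pi.single_apply]
  have hB : (VanCyc.polarMatrix b) r s = (if r ≤ s then b r s else 0) + (if s ≤ r then b s r else 0) := by
    unfold VanCyc.polarMatrix
    rcases lt_trichotomy r s with h | rfl | h
    · simp [h.ne, h, h.le, not_le.2 h]
    · simp [two_mul]
    · simp [h.ne', h.le, not_le.2 h, not_lt.2 h.le]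
  rw [hB]
  simp only [mul_add, mul_ite, mul_one, mul_zero]
  have e : ∀ i j, (if i ≤ j then ((if s = j then if r = i then b i j else 0 else 0) + (if s = i then if r = j then b i j else 0 else 0)) else 0) =
      (if s = j then if r = i then (if r ≤ s then b r s else 0) else 0 else 0) + (if s = i then if r = j then (if s ≤ r then b s r else 0) else 0 else 0) := by
    intro i j
    by_cases h1 : s = j <;> by_cases h2 : r = i <;> by_cases h3 : s = i <;> by_cases h4 : r = j <;> simp_all
  simp only [e, Finset.sum_add_distrib, Finset.sum_ite_eq, Finset.mem_univ, if_true,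
    Finset.sum_ite_irrel, Finset.sum_const_zero]

theorem sub_qEval_mem_cube (g : MvPowerSeries (Fin n) k) (hg : VanCyc.NoLowTerms g) :
    g - qEval (VanCyc.quadPart g) (fun i => (X i : MvPowerSeries (Fin n) k)) ∈ V ^ 3 := by
  classical
  refine mem_cube_iff_forall _ ?_ (fun i => ?_) (fun i => ?_) ?_
  · rw [map_sub, hg.1, constantCoeff_qEval _ _ constantCoeff_X, sub_zero]
  · rw [lin, map_sub, hg.2 i, ← lin, lin_qEval _ _ constantCoeff_X, sub_zero]
  · rw [map_sub, coeff_double_qEval _ _ constantCoeff_X, sub_eq_zero, VanCyc.quadEval,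
      Finset.sum_eq_single i (fun b _ hb => Finset.sum_eq_zero fun c _ => by simp [lin_X, hb])
        (fun h => absurd (Finset.mem_univ i) h),
      Finset.sum_eq_single i (fun b _ hb => by simp [lin_X, hb]) (fun h => absurd (Finset.mem_univ i) h)]
    simp [lin_X, VanCyc.quadPart]
  · ext r s
    have h : hess (g - qEval (VanCyc.quadPart g) fun i => (X i : MvPowerSeries (Fin n) k)) =
        hess g - hess (qEval (VanCyc.quadPart g) fun i => (X i : MvPowerSeries (Fin n) k)) := by
      ext a c; simp [hess]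
    rw [h, hess_qEval, hess_eq_polarMatrix, sub_self]

/-- Linear substitutions. -/
theorem exists_linear (L : Matrix (Fin n) (Fin n) k) (hL : IsUnit L.det) :
    ∃ Φ : MvPowerSeries (Fin n) k ≃ₐ[k] MvPowerSeries (Fin n) k, ∀ i, Φ (X i) = ∑ j, C (L i j) * X j := by
  haveI : IsAdicComplete (H2Alg.PSHom.V n k) (MvPowerSeries (Fin n) k) :=
    { toIsHausdorff := inferInstance, toIsPrecomplete := inferInstance }
  have hmem : ∀ (M : Matrix (Fin n) (Fin n) k) i, ∑ j, C (M i j) * X j ∈ H2Alg.PSHom.V n k := fun M i =>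
    sum_mem fun j _ => Ideal.mul_mem_left _ _ (H2Alg.PSHom.X_mem j)
  obtain ⟨φ, hφ⟩ := H2Alg.PSHom.exists_algHom (A := k) (H2Alg.PSHom.V n k) _ (hmem L)
  obtain ⟨ψ, hψ⟩ := H2Alg.PSHom.exists_algHom (A := k) (H2Alg.PSHom.V n k) _ (hmem L⁻¹)
  have key : ∀ (A B : Matrix (Fin n) (Fin n) k), A * B = 1 → ∀ (a b : MvPowerSeries (Fin n) k →ₐ[k] MvPowerSeries (Fin n) k),
      (∀ i, a (X i) = ∑ j, C (A i j) * X j) → (∀ i, b (X i) = ∑ j, C (B i j) * X j) → b.comp a = AlgHom.id k _ := by
    intro A B hAB a b ha hb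
    have h : ∀ i, (b.comp a) (X i) = X i := fun i => by
      have hC : ∀ c, b (C c) = C c := fun c => by rw [c_eq_algebraMap, AlgHom.commutes]
      rw [AlgHom.comp_apply, ha, map_sum]
      simp only [map_mul, hC, hb, Finset.mul_sum, ← mul_assoc]
      rw [Finset.sum_comm]
      simp only [← map_mul, ← Finset.sum_mul, ← map_sum]
      have hab := fun l => congrFun (congrFun hAB i) l
      simp only [Matrix.mul_apply] at hab
      simp [hab, Matrix.one_apply, apply_ite (C (σ := Fin n) (R := k)), ite_mul]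
    exact H2Alg.PSHom.algHom_ext (H2Alg.PSHom.V n k) (fun i => by rw [h]; exact H2Alg.PSHom.X_mem i) h
  exact ⟨AlgEquiv.ofAlgHom φ ψ (key L⁻¹ L (Matrix.nonsing_inv_mul L hL) ψ φ hψ hφ)
    (key L L⁻¹ (Matrix.mul_nonsing_inv L hL) φ ψ hφ hψ), hφ⟩

theorem quadEval_smul (a : Fin n → Fin n → k) (c : k) (v : Fin n → k) :
    VanCyc.quadEval a (c • v) = c * c * VanCyc.quadEval a v := by
  simp only [VanCyc.quadEval, Pi.smul_apply, smul_eq_mul, Finset.mul_sum, mul_ite, mul_zero]
  exact Finset.sum_congr rfl fun i _ => Finset.sum_congr rfl fun j _ => by split <;> ring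

theorem dot_polar (a : Fin n → Fin n → k) (v : Fin n → k) :
    ∑ i, v i * (VanCyc.polarMatrix a).mulVec v i = 2 * VanCyc.quadEval a v := by
  have h := Morse19.quadEval_add a v v
  rw [← two_smul k v, quadEval_smul] at h
  linear_combination -h

theorem polarMatrix_transpose (a : Fin n → Fin n → k) : (VanCyc.polarMatrix a).transpose = VanCyc.polarMatrix a := by
  ext i j
  simp only [Matrix.transpose_apply, VanCyc.polarMatrix]
  rcases lt_trichotomy i j with h | rfl | h
  · simp [h, h.ne, h.ne', not_lt.2 h.le]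
  · simp
  · simp [h, h.ne, h.ne', not_lt.2 h.le]

theorem splits_algebraMap (b : Fin n → Fin n → k) (P : Matrix (Fin n) (Fin n) k) (e : Option (Fin n))
    (hP : ∀ i j, e ≠ some i → (VanCyc.polarMatrix b * P) j i = if j = i then 1 else 0)
    (hrow : ∀ p, e = some p → b p p = 1 ∧ ∀ j, p < j → b p j = 0)
    (R : Type u) [CommRing R] [IsLocalRing R] [IsNoetherianRing R] [Algebra k R] :
    Splits fun i j => algebraMap k R (b i j) := by
  classical
  have hM : ∀ i j, VanCyc.polarMatrix (fun i j => algebraMap k R (b i j)) i j = algebraMap k R (VanCyc.polarMatrix b i j) := by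
    intro i j
    simp only [VanCyc.polarMatrix, apply_ite (algebraMap k R), map_mul, map_ofNat]
  refine splits_of_partialInverse _ (Matrix.of fun i j => algebraMap k R (P j i)) e (fun y i hi => ?_) (fun p hp y => ?_)
  · have : ∀ j, (VanCyc.polarMatrix (fun i j => algebraMap k R (b i j))).mulVec
        (Matrix.of (fun i j => algebraMap k R (P j i)) i) j = if j = i then 1 else 0 := by
      intro j
      simp only [Matrix.mulVec, dotProduct, hM, Matrix.of_apply, ← map_mul, ← map_sum]
      rw [← Matrix.mul_apply, hP i j hi, apply_ite (algebraMap k R), map_one, map_zero]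
    simp only [this, ite_mul, one_mul, zero_mul, Finset.sum_ite_eq', Finset.mem_univ, if_true]
  · refine ⟨fun i => if i = p then 0 else ∑ j, if i ≤ j then algebraMap k R (b i j) * y j else 0, fun i => ?_, by simp, ?_⟩
    · simp only
      split
      · exact zero_mem _
      · exact sum_mem fun j _ => by
          split
          · exact Ideal.mul_mem_left _ _ (Ideal.subset_span ⟨j, rfl⟩)
          · exact zero_mem _
    · rw [VanCyc.quadEval, ← Finset.add_sum_erase _ _ (Finset.mem_univ p), ← Finset.sum_erase (f := fun i => (if i = p then 0 else ∑ j, if i ≤ j then algebraMap k R (b i j) * y j else 0) * y i) (a := p) Finset.univ (by simp)]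
      congr 1
      · rw [Finset.sum_eq_single p]
        · simp [(hrow p hp).1]
        · intro j _ hj
          split
          · rename_i h
            simp [(hrow p hp).2 j (lt_of_le_of_ne h hj.symm)]
          · rfl
        · simp
      · refine Finset.sum_congr rfl fun i hi => ?_
        rw [if_neg (Finset.ne_of_mem_erase hi), Finset.sum_mul]
        exact Finset.sum_congr rfl fun j _ => by split <;> ring

theorem coeff_mem_cube_zero {h : MvPowerSeries (Fin n) k} (hh : h ∈ V ^ 3) (i : Fin n) :
    coeff (Finsupp.single i 2) h = 0 :=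
  H2Alg.PSHom.coeff_eq_zero_of_mem_pow hh (by simp)

/-- A linear change of coordinates brings an ordinary quadratic series into a form which splits. -/
theorem exists_normalSubst [IsAlgClosed k] (f : MvPowerSeries (Fin n) k) (hf : VanCyc.OrdQuadSeries f) :
    ∃ g : MvPowerSeries (Fin n) k, VanCyc.OrdQuadSeries g ∧
      Nonempty ((MvPowerSeries (Fin n) k ⧸ Ideal.span {f}) ≃ₐ[k] MvPowerSeries (Fin n) k ⧸ Ideal.span {g}) ∧
      ∀ (R : Type u) [CommRing R] [IsLocalRing R] [IsNoetherianRing R] [Algebra k R],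
        Splits fun i j => algebraMap k R (VanCyc.quadPart g i j) := by
  classical
  obtain ⟨hf0, hq⟩ := hf
  set q := VanCyc.quadPart f with hqdef
  set M := VanCyc.polarMatrix q with hMdef
  by_cases hdet : M.det ≠ 0
  · exact ⟨f, ⟨hf0, hq⟩, ⟨AlgEquiv.refl⟩, fun R => splits_algebraMap q M⁻¹ none
      (fun i j _ => by rw [← hMdef, Matrix.mul_nonsing_inv _ (isUnit_iff_ne_zero.2 hdet), Matrix.one_apply])
      (fun p hp => by simp at hp) R⟩
  rw [ne_eq, not_not] at hdet
  obtain ⟨v₀, hv₀, hMv₀⟩ := Matrix.exists_mulVec_eq_zero_iff.2 hdet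
  have hQ₀ : VanCyc.quadEval q v₀ ≠ 0 := fun e => hv₀ (hq v₀ e hMv₀)
  obtain ⟨c, hc⟩ := IsAlgClosed.exists_pow_nat_eq ((VanCyc.quadEval q v₀)⁻¹) (n := 2) two_pos
  set v := c • v₀ with hvdef
  have hMv : M.mulVec v = 0 := by rw [hvdef, Matrix.mulVec_smul, hMv₀, smul_zero]
  have hQv : VanCyc.quadEval q v = 1 := by
    rw [hvdef, quadEval_smul, ← pow_two, hc, inv_mul_cancel₀ hQ₀]
  have h2 : (2 : k) = 0 := by
    have h := dot_polar q v
    rw [hQv, ← hMdef, hMv] at h
    simpa using h.symm
  obtain ⟨p, hp⟩ : ∃ p, v p ≠ 0 := by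
    by_contra hne
    push Not at hne
    have : v = 0 := funext hne
    rw [this] at hQv
    simp [VanCyc.quadEval] at hQv
  set L := (1 : Matrix (Fin n) (Fin n) k).updateCol p v with hLdef
  have hL : IsUnit L.det := by
    rw [hLdef, ← Matrix.cramer_apply, Matrix.cramer_one]
    exact isUnit_iff_ne_zero.2 hp
  obtain ⟨Φ, hΦ⟩ := exists_linear L hL
  have hΦ0 : ∀ i, constantCoeff (Φ (X i)) = 0 := fun i => by rw [hΦ]; simp [map_sum]
  have hΦ1 : ∀ i l, lin (Φ (X i)) l = L i l := fun i l => by
    rw [hΦ, lin, map_sum]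
    simp [coeff_C_mul, coeff_X, Finsupp.single_eq_single_iff, eq_comm]
  set g := Φ f with hgdef
  have hg : VanCyc.NoLowTerms g := by
    obtain ⟨h1, h1'⟩ := lin_map Φ.toAlgHom hΦ0 f hf0.1
    refine ⟨h1, fun i => ?_⟩
    have := h1' i
    simpa [lin, hf0.2] using this
  set b := VanCyc.quadPart g with hbdef
  set N := VanCyc.polarMatrix b with hNdef
  have hN : N = L.transpose * M * L := by
    have h := hess_map Φ.toAlgHom hΦ0 f hf0.1 (fun i => hf0.2 i)
    rw [hess_eq_polarMatrix, hess_eq_polarMatrix] at h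
    rw [hNdef, hbdef, hgdef]
    simpa only [AlgEquiv.coe_toAlgHom, hΦ1, ← hqdef, ← hMdef, show (Matrix.of fun i l => L i l) = L from rfl] using h
  have hLp : ∀ i, L i p = v i := fun i => Matrix.updateCol_self
  have hNp : ∀ l, N p l = 0 := fun l => by
    rw [hN, Matrix.mul_apply]
    refine Finset.sum_eq_zero fun m _ => ?_
    have : (L.transpose * M) p m = M.mulVec v m := by
      simp only [Matrix.mul_apply, Matrix.transpose_apply, hLp, Matrix.mulVec, dotProduct]
      exact Finset.sum_congr rfl fun i _ => by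
        rw [mul_comm]; exact congrArg (· * v i) (congrFun (congrFun (polarMatrix_transpose q) m) i)
    rw [this, hMv, Pi.zero_apply, zero_mul]
  have hVle : (V).map Φ.toAlgHom ≤ V :=
    Ideal.map_le_iff_le_comap.2 (Ideal.span_le.2 (by rintro _ ⟨i, rfl⟩; exact PSIdeal.mem_varIdeal (hΦ0 i)))
  have hbp : b p p = 1 := by
    have h3 := Ideal.mem_map_of_mem Φ.toAlgHom (sub_qEval_mem_cube f hf0)
    rw [Ideal.map_pow] at h3
    have h4 := coeff_mem_cube_zero (Ideal.pow_right_mono hVle 3 h3) p
    rw [AlgEquiv.coe_toAlgHom, map_sub Φ, map_sub, sub_eq_zero, ← hgdef, ← hqdef] at h4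
    have h5 := qEval_map Φ.toAlgHom q (fun i => (X i : MvPowerSeries (Fin n) k))
    simp only [AlgEquiv.coe_toAlgHom] at h5
    rw [h5, coeff_double_qEval _ _ hΦ0] at h4
    rw [hbdef, VanCyc.quadPart, if_pos rfl, h4]
    simp only [hΦ1, hLp]
    exact hQv
  have hrad : ∀ u, M.mulVec u = 0 → ∃ t : k, u = t • v := fun u hu => by
    obtain ⟨t, ht⟩ := IsAlgClosed.exists_pow_nat_eq (VanCyc.quadEval q u) (n := 2) two_pos
    refine ⟨t, sub_eq_zero.1 ?_⟩
    rw [sub_eq_add_neg, ← neg_smul]
    refine hq _ ?_ ?_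
    · rw [Morse19.quadEval_add, quadEval_smul, hQv, ← hMdef, Matrix.mulVec_smul, hMv]
      simp only [smul_zero, Pi.zero_apply, mul_zero, Finset.sum_const_zero, add_zero, mul_one, neg_mul_neg]
      linear_combination ht + VanCyc.quadEval q u * h2
    · rw [← hMdef, Matrix.mulVec_add, hu, Matrix.mulVec_smul, hMv, smul_zero, add_zero]
  let E : Matrix (Fin n) (Fin n) k := Matrix.single p p 1
  have hEw : ∀ w j, E.mulVec w j = if j = p then w p else 0 := fun w j => by
    simp [E, Matrix.mulVec, dotProduct, Matrix.single_apply, eq_comm, ite_and]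
  have hker : ∀ w, N.mulVec w = 0 → ∃ t : k, w = t • (Pi.single p 1 : Fin n → k) := fun w hw => by
    rw [hN, ← Matrix.mulVec_mulVec, ← Matrix.mulVec_mulVec] at hw
    have hLu : IsUnit L := (Matrix.isUnit_iff_isUnit_det L).2 hL
    have hLt : IsUnit L.transpose := (Matrix.isUnit_iff_isUnit_det _).2 (by rwa [Matrix.det_transpose])
    have h1 : M.mulVec (L.mulVec w) = 0 := Matrix.mulVec_injective_iff_isUnit.2 hLt (by rw [hw, Matrix.mulVec_zero])
    obtain ⟨t, ht⟩ := hrad _ h1
    refine ⟨t, Matrix.mulVec_injective_iff_isUnit.2 hLu ?_⟩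
    rw [ht, Matrix.mulVec_smul, Matrix.mulVec_single_one]
    congr 1
    exact funext fun i => (hLp i).symm
  have hNE : IsUnit (N + E).det := by
    refine isUnit_iff_ne_zero.2 fun e => ?_
    obtain ⟨w, hw, hw0⟩ := Matrix.exists_mulVec_eq_zero_iff.2 e
    rw [Matrix.add_mulVec] at hw0
    have hwp : w p = 0 := by
      have := congrFun hw0 p
      rw [Pi.add_apply, hEw, if_pos rfl] at this
      simpa [Matrix.mulVec, dotProduct, hNp] using this
    have hNw : N.mulVec w = 0 := funext fun j => by
      have := congrFun hw0 j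
      simpa [hEw, hwp] using this
    obtain ⟨t, rfl⟩ := hker w hNw
    simp only [Pi.smul_apply, Pi.single_eq_same, smul_eq_mul, mul_one] at hwp
    exact hw (by rw [hwp, zero_smul])
  have hord : VanCyc.QuadOrd b := fun w hwQ hwM => by
    obtain ⟨t, rfl⟩ := hker w hwM
    have : VanCyc.quadEval b (Pi.single p 1) = 1 := by
      rw [VanCyc.quadEval, Finset.sum_eq_single p, Finset.sum_eq_single p]
      · simpa using hbp
      · intro j _ hj; simp [hj]
      · simp
      · intro i _ hi; simp [hi]
      · simp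
    rw [quadEval_smul, this, mul_one, mul_self_eq_zero] at hwQ
    rw [hwQ, zero_smul]
  refine ⟨g, ⟨hg, hord⟩, ⟨Ideal.quotientEquivAlg _ _ Φ (by rw [Ideal.map_span, Set.image_singleton]; rfl)⟩,
    fun R => splits_algebraMap b (N + E)⁻¹ (some p) (fun i j hi => ?_) (fun p' hp' => ?_) R⟩
  · have hip : i ≠ p := fun e => hi (by rw [e])
    have h1 := Matrix.mul_nonsing_inv (N + E) hNE
    have hpi : (N + E)⁻¹ p i = 0 := by
      have := congrFun (congrFun h1 p) i
      simpa [Matrix.mul_apply, hNp, E, Matrix.single_apply, hip.symm, ite_and] using this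
    rw [Matrix.add_mul] at h1
    have h3 := congrFun (congrFun h1 j) i
    rw [Matrix.add_apply, Matrix.one_apply] at h3
    rw [← hNdef, ← h3]
    simp [Matrix.mul_apply, E, Matrix.single_apply, ite_and, hpi]
  · obtain rfl := Option.some.inj hp'
    refine ⟨hbp, fun j hj => ?_⟩
    have := hNp j
    rwa [hNdef, VanCyc.polarMatrix, if_neg hj.ne, if_pos hj] at this

/-- An ordinary quadratic series is equivalent to an ordinary quadratic form. -/
theorem exists_normalForm [IsAlgClosed k] (i₀ : Fin n) (f : MvPowerSeries (Fin n) k) (hf : VanCyc.OrdQuadSeries f) :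
    ∃ a : Fin n → Fin n → k, VanCyc.QuadOrd a ∧
      Nonempty ((MvPowerSeries (Fin n) k ⧸ Ideal.span {f}) ≃ₐ[k]
        MvPowerSeries (Fin n) k ⧸ Ideal.span {qEval a fun i => (X i : MvPowerSeries (Fin n) k)}) := by
  classical
  obtain ⟨g, ⟨hg0, hord⟩, ⟨e₁⟩, hsplit⟩ := exists_normalSubst f hf
  set b := VanCyc.quadPart g with hbdef
  let S := MvPowerSeries (Fin n) k
  let R := S ⧸ Ideal.span {g}
  let π : S →ₐ[k] R := Ideal.Quotient.mkₐ k _
  have hπs : Function.Surjective π := Ideal.Quotient.mk_surjective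
  haveI : Nontrivial R := Ideal.Quotient.nontrivial_iff.2 fun e => by
    obtain ⟨c, hc⟩ := Ideal.mem_span_singleton'.1 (e ▸ Submodule.mem_top : (1 : S) ∈ Ideal.span {g})
    have := congrArg constantCoeff hc
    simp [hg0.1] at this
  haveI : IsLocalRing R := IsLocalRing.of_surjective' _ Ideal.Quotient.mk_surjective
  haveI : IsAdicComplete (IsLocalRing.maximalIdeal S) S := by
    rw [← PSIdeal.varIdeal_eq_maximalIdeal]
    exact ({ toIsHausdorff := inferInstance, toIsPrecomplete := inferInstance } : IsAdicComplete (H2Alg.PSHom.V n k) S)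
  haveI : IsAdicComplete (IsLocalRing.maximalIdeal R) R := CohenAlg3.isAdicComplete_quotient (Ideal.span {g})
  have hm : ∀ m, IsLocalRing.maximalIdeal R ^ m = ((V) ^ m).map π := fun m => by
    rw [Ideal.map_pow, PSIdeal.varIdeal_eq_maximalIdeal]
    exact congrArg (· ^ m) (IsLocalRing.map_maximalIdeal_of_surjective (Ideal.Quotient.mk (Ideal.span {g})) Ideal.Quotient.mk_surjective).symm
  have hπg : π g = 0 := Ideal.Quotient.eq_zero_iff_mem.2 (Ideal.mem_span_singleton_self g)
  let y₀ : Fin n → R := fun i => π (X i)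
  have hy₀ : Ideal.span (Set.range y₀) = IsLocalRing.maximalIdeal R := by
    rw [← pow_one (IsLocalRing.maximalIdeal R), hm 1, pow_one, PSIdeal.varIdeal, Ideal.map_span, ← Set.range_comp]
    rfl
  have h₀ : VanCyc.quadEval (fun i j => algebraMap k R (b i j)) y₀ ∈ IsLocalRing.maximalIdeal R ^ 3 := by
    rw [hm]
    have h := Ideal.mem_map_of_mem π (neg_mem (sub_qEval_mem_cube g hg0))
    rw [map_neg, map_sub, hπg, zero_sub, neg_neg, qEval_map] at h
    exact h
  obtain ⟨y, hy, hy'⟩ := exists_quadEval_eq_zero _ (hsplit R) y₀ hy₀ h₀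
  have hv : ∀ i, ∃ v ∈ (V) ^ 2, π v = y i - y₀ i := fun i => by
    have := hy' i
    rw [hm] at this
    exact (Ideal.mem_map_iff_of_surjective _ hπs).1 this
  choose v hv2 hv using hv
  let Y : Fin n → S := fun i => X i + v i
  have hYV : Ideal.span (Set.range Y) = IsLocalRing.maximalIdeal S :=
    span_range_eq_of_sub_mem (fun i => (X i : S)) Y PSIdeal.varIdeal_eq_maximalIdeal fun i => by
      rw [← PSIdeal.varIdeal_eq_maximalIdeal]; simpa [Y] using hv2 i
  have hYmem : ∀ i, Y i ∈ H2Alg.PSHom.V n k := fun i =>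
    add_mem (H2Alg.PSHom.X_mem i) (Ideal.pow_le_self two_ne_zero (hv2 i))
  haveI : IsAdicComplete (H2Alg.PSHom.V n k) S := { toIsHausdorff := inferInstance, toIsPrecomplete := inferInstance }
  obtain ⟨Φ, hΦ⟩ := H2Alg.PSHom.exists_algHom (A := k) (H2Alg.PSHom.V n k) Y hYmem
  have hsurj : Function.Surjective Φ := by
    refine H2Alg.PSHom.surjective Φ (H2Alg.PSHom.V n k) ?_ fun t => ⟨constantCoeff t, ?_⟩
    · rw [H2Alg.PSHom.V, Ideal.map_span, ← Set.range_comp,
        show (⇑Φ ∘ fun i => (X i : S)) = Y from funext hΦ, hYV]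
      exact PSIdeal.varIdeal_eq_maximalIdeal.symm
    · exact PSIdeal.mem_varIdeal (by simp [← c_eq_algebraMap])
  let e : S ≃ₐ[k] S := AlgEquiv.ofBijective Φ ⟨MulEtale20.injective_of_surjective_endo Φ.toRingHom hsurj, hsurj⟩
  let G : S := qEval b fun i => (X i : S)
  have hΦG : Φ G = qEval b Y := by rw [qEval_map, funext hΦ]
  have hπY : π (qEval b Y) = 0 := by
    rw [qEval_map, show (fun i => π (Y i)) = y from funext fun i => by rw [map_add, hv, add_sub_cancel]]
    exact hy
  obtain ⟨c, hc⟩ := Ideal.mem_span_singleton'.1 (Ideal.Quotient.eq_zero_iff_mem.1 hπY)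
  have hdiff : qEval b Y - g ∈ (V) ^ 3 := by
    have h1 : qEval b Y = G + (∑ i, X i * (VanCyc.polarMatrix fun i j => algebraMap k S (b i j)).mulVec v i +
        qEval b v) := by
      rw [← add_assoc]
      exact Morse19.quadEval_add _ (fun i => (X i : S)) v
    rw [h1, show G + _ - g = (∑ i, X i * (VanCyc.polarMatrix fun i j => algebraMap k S (b i j)).mulVec v i +
        qEval b v) - (g - G) by ring]
    refine sub_mem (add_mem (sum_mem fun i _ => ?_) (Ideal.pow_le_pow_right (show 3 ≤ 2 * 2 by omega) ?_))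
      (sub_qEval_mem_cube g hg0)
    · rw [pow_succ']
      refine Ideal.mul_mem_mul (PSIdeal.X_mem i) ?_
      simp only [Matrix.mulVec, dotProduct]
      exact sum_mem fun j _ => Ideal.mul_mem_left _ _ (hv2 j)
    · rw [pow_mul]
      exact quadEval_mem _ hv2
  have hc0 : constantCoeff c ≠ 0 := fun e => by
    have hu : IsUnit (c - 1) := isUnit_iff_constantCoeff.2 (by simp [e])
    have hgV : g ∈ (V) ^ 3 := by
      rw [← Ideal.unit_mul_mem_iff_mem _ hu, sub_mul, one_mul, hc]
      exact hdiff
    have hb : b = 0 := by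
      funext i j
      simp only [hbdef, VanCyc.quadPart, Pi.zero_apply]
      split
      · exact coeff_mem_cube_zero hgV i
      · split
        · exact H2Alg.PSHom.coeff_eq_zero_of_mem_pow hgV (by simp)
        · rfl
    have := congrFun (hord (Pi.single i₀ 1) (by simp [hb, VanCyc.quadEval])
      (by rw [hb, show VanCyc.polarMatrix (0 : Fin n → Fin n → k) = 0 from by ext i j; simp [VanCyc.polarMatrix],
        Matrix.zero_mulVec])) i₀
    simp at this
  have hcu : IsUnit c := isUnit_iff_constantCoeff.2 (isUnit_iff_ne_zero.2 hc0)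
  have hmap : Ideal.span {g} = (Ideal.span {G}).map (e : S →+* S) := by
    rw [Ideal.map_span, Set.image_singleton,
      show (e : S →+* S) G = c * g from (by rw [hc]; exact hΦG), Ideal.span_singleton_mul_left_unit hcu]
  exact ⟨b, hord, ⟨e₁.trans (Ideal.quotientEquivAlg _ _ e hmap).symm⟩⟩

end Groth.Agent.QuadSing19
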