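import Groth.Agent.S7203
import Groth.Agent.Lib.Hens.Henselization
import Groth.Agent.Lib.ElemNbhd15.Hens
import Groth.Agent.Lib.CplLevelH7.Equiv
import Groth.Agent.Lib.CplDomain.GRing

/-! # Isomorphic completions give isomorphic henselizations for finite type algebras over a field -/

set_option autoImplicit false
set_option linter.style.haveILetI false
set_option backward.isDefEq.respectTransparency.types false
universe u

open CategoryTheory AlgebraicGeometry IsLocalRing

namespace Groth.Agent.QuadSing19

/-- Completions of isomorphic local rings. -/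
theorem exists_cplEquiv_of_ringEquiv {A B : Type u} [CommRing A] [IsLocalRing A] [CommRing B] [IsLocalRing B]
    (e : A ≃+* B) :
    ∃ E : AdicCompletion (maximalIdeal A) A ≃+* AdicCompletion (maximalIdeal B) B,
      ∀ a, E (algebraMap A _ a) = algebraMap B _ (e a) := by
  letI : Algebra A B := e.toRingHom.toAlgebra
  let f : A →ₐ[A] B := Algebra.ofId A B
  have hB : (maximalIdeal A).map (algebraMap A B) = maximalIdeal B :=
    IsLocalRing.map_maximalIdeal_of_surjective e.toRingHom e.surjective
  have hA : (maximalIdeal A).map (algebraMap A A) = maximalIdeal A := Ideal.map_id _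
  have hbij : ∀ n, Function.Bijective (CplLevelH7.lev (maximalIdeal A) f n) := fun n => by
    refine ⟨(injective_iff_map_eq_zero _).2 fun x hx => ?_, fun y => ?_⟩
    · obtain ⟨a, rfl⟩ := Ideal.Quotient.mk_surjective x
      rw [CplLevelH7.lev_mk, Ideal.Quotient.eq_zero_iff_mem, ← Ideal.map_pow] at hx
      rw [Ideal.Quotient.eq_zero_iff_mem, hA]
      exact (Ideal.apply_mem_of_equiv_iff (f := e)).1 hx
    · obtain ⟨b, rfl⟩ := Ideal.Quotient.mk_surjective y
      exact ⟨Ideal.Quotient.mk _ (e.symm b), congrArg (Ideal.Quotient.mk _) (e.apply_symm_apply b)⟩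
  have he := CplLevelH7.exists_cplEquiv (B := A) (T := B) (maximalIdeal A) f hbij
  rw [hA, hB] at he
  obtain ⟨E⟩ := he
  refine ⟨E.toRingEquiv, fun a => (E.commutes a).trans ?_⟩
  rfl

/-- Henselizations transfer along isomorphisms of the base. -/
theorem isHenselization_of_ringEquiv {A A' T : Type u} [CommRing A] [IsLocalRing A] [CommRing A'] [IsLocalRing A']
    [CommRing T] [IsLocalRing T] [Algebra A T] [IsLocalHom (algebraMap A T)] [Hensel.IsHenselization A T]
    [Algebra A' T] [IsLocalHom (algebraMap A' T)] (e : A' ≃+* A) (he : ∀ a, algebraMap A' T a = algebraMap A T (e a)) :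
    Hensel.IsHenselization A' T := by
  refine ⟨Hensel.IsHenselization.henselian (R := A), fun C _ _ f hf => ?_⟩
  haveI : IsLocalHom f := hf
  haveI : IsLocalHom e.symm.toRingHom := ⟨fun a h => by simpa using h.map e⟩
  obtain ⟨g, hg, hu⟩ := Hensel.IsHenselization.universal (R := A) (S := T) C (f.comp e.symm.toRingHom)
    (RingHom.isLocalHom_comp _ _)
  refine ⟨g, RingHom.ext fun a => ?_, fun g' hg' => hu g' (RingHom.ext fun a => ?_)⟩
  · show g (algebraMap A' T a) = f a
    rw [he, show g (algebraMap A T (e a)) = f (e.symm (e a)) from RingHom.congr_fun hg (e a), e.symm_apply_apply]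
  · show g' (algebraMap A T a) = f (e.symm a)
    rw [← show g' (algebraMap A' T (e.symm a)) = f (e.symm a) from RingHom.congr_fun hg' (e.symm a), he,
      e.apply_symm_apply]

/-- A henselization of an étale neighbourhood with trivial residue extension is a henselization. -/
theorem isHenselization_sm {X U : Scheme.{u}} (g : U ⟶ X) [Etale g] (u : U) {x : X} (hx : g u = x)
    (hres : Function.Bijective (g.residueFieldMap u)) (R : Type u) [CommRing R] [IsLocalRing R]
    [Algebra ↥(U.presheaf.stalk u) R] [IsLocalHom (algebraMap ↥(U.presheaf.stalk u) R)]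
    [Hensel.IsHenselization ↥(U.presheaf.stalk u) R] :
    letI : Algebra ↥(X.presheaf.stalk x) R :=
      ((algebraMap ↥(U.presheaf.stalk u) R).comp (ArtinApproxH7.sm g hx).hom).toAlgebra
    ∃ (_ : IsLocalHom (algebraMap ↥(X.presheaf.stalk x) R)), Hensel.IsHenselization ↥(X.presheaf.stalk x) R := by
  subst hx
  have hsm : (ArtinApproxH7.sm g (rfl : g u = g u)).hom = (g.stalkMap u).hom := by
    simp [ArtinApproxH7.sm, TopCat.Presheaf.stalkCongr]
  rw [hsm]
  have hloc : IsLocalHom ((algebraMap ↥(U.presheaf.stalk u) R).comp (g.stalkMap u).hom) :=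
    RingHom.isLocalHom_comp _ _
  letI : Algebra ↥(X.presheaf.stalk (g u)) R :=
    ((algebraMap ↥(U.presheaf.stalk u) R).comp (g.stalkMap u).hom).toAlgebra
  refine ⟨hloc, ?_⟩
  obtain ⟨V, hV, huV, -⟩ := exists_isAffineOpen_mem_and_subset (X := X) (x := g u) (U := ⊤) trivial
  obtain ⟨V', hV', huV', hle⟩ := exists_isAffineOpen_mem_and_subset (X := U) (x := u) (U := g ⁻¹ᵁ V) huV
  have he := Scheme.Hom.etale_appLE g hV hV' hle
  let _ : Algebra Γ(X, V) Γ(U, V') := (g.appLE V V' hle).hom.toAlgebra
  have : Algebra.Etale Γ(X, V) Γ(U, V') := he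
  let _ : Algebra Γ(X, V) (X.presheaf.stalk (g u)) := (X.presheaf.germ V (g u) huV).hom.toAlgebra
  let _ : Algebra Γ(U, V') (U.presheaf.stalk u) := (U.presheaf.germ V' u huV').hom.toAlgebra
  let _ : Algebra (X.presheaf.stalk (g u)) (U.presheaf.stalk u) := (g.stalkMap u).hom.toAlgebra
  let _ : Algebra Γ(X, V) (U.presheaf.stalk u) :=
    ((U.presheaf.germ V' u huV').hom.comp (g.appLE V V' hle).hom).toAlgebra
  have : IsScalarTower Γ(X, V) Γ(U, V') (U.presheaf.stalk u) := .of_algebraMap_eq' rfl
  have : IsScalarTower Γ(X, V) (X.presheaf.stalk (g u)) (U.presheaf.stalk u) :=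
    .of_algebraMap_eq' (by
      have h := congrArg CommRingCat.Hom.hom (g.germ_stalkMap V u huV)
      rw [CommRingCat.hom_comp, CommRingCat.hom_comp] at h
      show _ = (g.stalkMap u).hom.comp (X.presheaf.germ V (g u) huV).hom
      rw [h]
      show (U.presheaf.germ V' u huV').hom.comp (g.appLE V V' hle).hom = _
      rw [← CommRingCat.hom_comp, ← CommRingCat.hom_comp, Scheme.Hom.appLE, Category.assoc,
        TopCat.Presheaf.germ_res])
  have h1 : IsLocalization.AtPrime (X.presheaf.stalk (g u)) (hV.primeIdealOf ⟨g u, huV⟩).asIdeal :=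
    hV.isLocalization_stalk ⟨g u, huV⟩
  have h2 : IsLocalization.AtPrime (U.presheaf.stalk u) (hV'.primeIdealOf ⟨u, huV'⟩).asIdeal :=
    hV'.isLocalization_stalk ⟨u, huV'⟩
  have : IsLocalHom (algebraMap (X.presheaf.stalk (g u)) (U.presheaf.stalk u)) :=
    inferInstanceAs (IsLocalHom (g.stalkMap u).hom)
  have : IsScalarTower (X.presheaf.stalk (g u)) (U.presheaf.stalk u) R := .of_algebraMap_eq' rfl
  have : IsLocalHom (algebraMap (X.presheaf.stalk (g u)) R) := hloc
  exact ElemNbhd15.isHenselization_of_etale (A := X.presheaf.stalk (g u)) (B := U.presheaf.stalk u)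
    (hV.primeIdealOf ⟨g u, huV⟩).asIdeal (hV'.primeIdealOf ⟨u, huV'⟩).asIdeal hres R

section Spec

variable {R : Type u} [CommRing R]

/-- The ring equivalence between a stalk of an affine scheme and the localization. -/
noncomputable def stalkEquiv (x : PrimeSpectrum R) :
    (Spec (.of R)).presheaf.stalk x ≃+* Localization.AtPrime x.asIdeal :=
  (Spec.stalkIso (.of R) x).commRingCatIsoToRingEquiv

/-- The map of a ring to a stalk of its spectrum. -/
noncomputable def toStalk (x : PrimeSpectrum R) : R →+* (Spec (.of R)).presheaf.stalk x :=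
  ((Scheme.ΓSpecIso (.of R)).inv ≫ (Spec (.of R)).presheaf.germ ⊤ x trivial).hom

theorem stalkEquiv_symm_algebraMap (x : PrimeSpectrum R) (r : R) :
    (stalkEquiv x).symm (algebraMap R _ r) = toStalk x r := by
  exact DFunLike.congr_fun (congrArg CommRingCat.Hom.hom (Spec.algebraMap_stalkIso_inv (R := .of R) (x := x))) r

theorem sm_toStalk {U : Scheme.{u}} (e : U ⟶ Spec (.of R)) {u : U} {x : PrimeSpectrum R} (h : e u = x) (r : R) :
    (ArtinApproxH7.sm e h).hom (toStalk x r) =
      (U.presheaf.germ ⊤ u trivial).hom (e.appTop.hom ((Scheme.ΓSpecIso (.of R)).inv.hom r)) := by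
  subst h
  have h1 := DFunLike.congr_fun (congrArg CommRingCat.Hom.hom (e.germ_stalkMap ⊤ u trivial))
    ((Scheme.ΓSpecIso (.of R)).inv.hom r)
  rw [CommRingCat.hom_comp, CommRingCat.hom_comp, RingHom.comp_apply, RingHom.comp_apply] at h1
  have hsm : (ArtinApproxH7.sm e (rfl : e u = e u)).hom = (e.stalkMap u).hom := by
    simp [ArtinApproxH7.sm, TopCat.Presheaf.stalkCongr]
  rw [hsm]
  exact h1

theorem appTop_map {S : Type u} [CommRing S] (φ : R →+* S) (r : R) :
    (Spec.map (CommRingCat.ofHom φ)).appTop.hom ((Scheme.ΓSpecIso (.of R)).inv.hom r) =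
      (Scheme.ΓSpecIso (.of S)).inv.hom (φ r) :=
  (DFunLike.congr_fun (congrArg CommRingCat.Hom.hom (Scheme.ΓSpecIso_inv_naturality (CommRingCat.ofHom φ))) r).symm

end Spec

/-- Two points of algebras of finite type over a field with isomorphic completions have isomorphic
henselizations. -/
theorem exists_algEquiv_henselization (k : Type u) [Field k] (A B : Type u) [CommRing A] [CommRing B]
    [Algebra k A] [Algebra k B] [Algebra.FiniteType k A] [Algebra.FiniteType k B]
    (p : Ideal A) [p.IsPrime] (q : Ideal B) [q.IsPrime]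
    (φ : AdicCompletion (maximalIdeal (Localization.AtPrime p)) (Localization.AtPrime p) ≃ₐ[k]
      AdicCompletion (maximalIdeal (Localization.AtPrime q)) (Localization.AtPrime q))
    (Ah : Type u) [CommRing Ah] [IsLocalRing Ah] [Algebra (Localization.AtPrime p) Ah]
    [IsLocalHom (algebraMap (Localization.AtPrime p) Ah)] [Hensel.IsHenselization (Localization.AtPrime p) Ah]
    [Algebra k Ah] [IsScalarTower k (Localization.AtPrime p) Ah]
    (Bh : Type u) [CommRing Bh] [IsLocalRing Bh] [Algebra (Localization.AtPrime q) Bh]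
    [IsLocalHom (algebraMap (Localization.AtPrime q) Bh)] [Hensel.IsHenselization (Localization.AtPrime q) Bh]
    [Algebra k Bh] [IsScalarTower k (Localization.AtPrime q) Bh] :
    Nonempty (Ah ≃ₐ[k] Bh) := by
  let X : Scheme.{u} := Spec (.of A)
  let Y : Scheme.{u} := Spec (.of B)
  let S : Scheme.{u} := Spec (.of k)
  let pX : X ⟶ S := Spec.map (CommRingCat.ofHom (algebraMap k A))
  let pY : Y ⟶ S := Spec.map (CommRingCat.ofHom (algebraMap k B))
  haveI : LocallyOfFiniteType pX :=
    (HasRingHomProperty.Spec_iff (P := @LocallyOfFiniteType)).2 (RingHom.finiteType_algebraMap.2 inferInstance)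
  haveI : LocallyOfFiniteType pY :=
    (HasRingHomProperty.Spec_iff (P := @LocallyOfFiniteType)).2 (RingHom.finiteType_algebraMap.2 inferInstance)
  let x : X := (⟨p, inferInstance⟩ : PrimeSpectrum A)
  let y : Y := (⟨q, inferInstance⟩ : PrimeSpectrum B)
  have hxy : pX x = pY y := Subsingleton.elim (α := PrimeSpectrum k) _ _
  let sX : X.presheaf.stalk x ≃+* Localization.AtPrime p := stalkEquiv (R := A) ⟨p, inferInstance⟩
  let sY : Y.presheaf.stalk y ≃+* Localization.AtPrime q := stalkEquiv (R := B) ⟨q, inferInstance⟩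
  let z : PrimeSpectrum k := pX x
  have hk : ∀ v : Localization.AtPrime z.asIdeal, ∃ c, algebraMap k _ c = v := fun v => by
    obtain ⟨c, s, rfl⟩ := IsLocalization.exists_mk'_eq z.asIdeal.primeCompl v
    refine ⟨c / s, ?_⟩
    rw [IsLocalization.eq_mk'_iff_mul_eq, ← map_mul, div_mul_cancel₀]
    exact fun e => s.2 (show (s : k) ∈ z.asIdeal by rw [e]; exact zero_mem _)
  have hG : CAlg.IsGRing ↑(S.presheaf.stalk (pX x)) := by
    haveI : IsAdicComplete (maximalIdeal k) k := by rw [IsLocalRing.maximalIdeal_eq_bot]; infer_instance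
    exact GRing6.isGRing_of_ringEquiv (stalkEquiv z)
      (GRing6.isGRing_of_isLocalization k _ z.asIdeal.primeCompl (CplDomain.isGRing_of_complete k))
  obtain ⟨EX, hEX⟩ := exists_cplEquiv_of_ringEquiv sX
  obtain ⟨EY, hEY⟩ := exists_cplEquiv_of_ringEquiv sY
  let Φ := (EY.trans φ.symm.toRingEquiv).trans EX.symm
  obtain ⟨U, u, e, heu, f, hfu, he, hbe, hf, hbf, hfg, -⟩ := S7203.result pX pY x y hxy hG Φ (by
    refine RingHom.ext fun w => ?_
    obtain ⟨c, hc⟩ := hk (stalkEquiv z w)
    obtain rfl : w = toStalk z c := by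
      rw [← stalkEquiv_symm_algebraMap, hc, RingEquiv.symm_apply_apply]
    have hY : (pY.stalkMap y).hom ((S.presheaf.stalkCongr (Inseparable.of_eq hxy)).hom.hom (toStalk z c)) =
        sY.symm (algebraMap k _ c) := by
      have h := sm_toStalk pY (u := y) (x := pX x) hxy.symm c
      rw [appTop_map] at h
      rw [IsScalarTower.algebraMap_apply k B, stalkEquiv_symm_algebraMap]
      exact h
    have hX : (pX.stalkMap x).hom (toStalk z c) = sX.symm (algebraMap k _ c) := by
      have h := sm_toStalk pX (u := x) (x := pX x) rfl c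
      rw [appTop_map] at h
      rw [IsScalarTower.algebraMap_apply k A, stalkEquiv_symm_algebraMap]
      have hsm : (ArtinApproxH7.sm pX (rfl : pX x = pX x)).hom = (pX.stalkMap x).hom := by
        simp [ArtinApproxH7.sm, TopCat.Presheaf.stalkCongr]
      rw [hsm] at h
      exact h
    simp only [RingHom.comp_apply, RingEquiv.toRingHom_eq_coe, RingEquiv.coe_toRingHom]
    rw [hY, hX]
    show EX.symm (φ.symm (EY (algebraMap _ _ (sY.symm (algebraMap k _ c))))) = _
    rw [hEY, RingEquiv.apply_symm_apply, ← IsScalarTower.algebraMap_apply k (Localization.AtPrime q), AlgEquiv.commutes,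
      RingEquiv.symm_apply_eq, hEX, RingEquiv.apply_symm_apply, ← IsScalarTower.algebraMap_apply]) 1 le_rfl
  haveI := he
  haveI := hf
  let T := Hens.Hh (U.presheaf.stalk u)
  let gX : Localization.AtPrime p →+* U.presheaf.stalk u := (ArtinApproxH7.sm e heu).hom.comp sX.symm.toRingHom
  let gY : Localization.AtPrime q →+* U.presheaf.stalk u := (ArtinApproxH7.sm f hfu).hom.comp sY.symm.toRingHom
  letI aX : Algebra (X.presheaf.stalk x) T := ((algebraMap (U.presheaf.stalk u) T).comp (ArtinApproxH7.sm e heu).hom).toAlgebra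
  letI aY : Algebra (Y.presheaf.stalk y) T := ((algebraMap (U.presheaf.stalk u) T).comp (ArtinApproxH7.sm f hfu).hom).toAlgebra
  obtain ⟨hlX, hTX⟩ := isHenselization_sm e u heu hbe T
  obtain ⟨hlY, hTY⟩ := isHenselization_sm f u hfu hbf T
  letI : Algebra (Localization.AtPrime p) T := ((algebraMap (U.presheaf.stalk u) T).comp gX).toAlgebra
  letI : Algebra (Localization.AtPrime q) T := ((algebraMap (U.presheaf.stalk u) T).comp gY).toAlgebra
  haveI : IsLocalHom (algebraMap (Localization.AtPrime p) T) := ⟨fun a h => by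
    have := hlX.map_nonunit (sX.symm a) h
    simpa using this.map sX⟩
  haveI : IsLocalHom (algebraMap (Localization.AtPrime q) T) := ⟨fun a h => by
    have := hlY.map_nonunit (sY.symm a) h
    simpa using this.map sY⟩
  haveI := isHenselization_of_ringEquiv (A := X.presheaf.stalk x) (A' := Localization.AtPrime p) (T := T)
    sX.symm fun _ => rfl
  haveI := isHenselization_of_ringEquiv (A := Y.presheaf.stalk y) (A' := Localization.AtPrime q) (T := T)
    sY.symm fun _ => rfl
  obtain ⟨a₁⟩ := Hens.exists_henselization_equiv (Localization.AtPrime p) Ah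
  obtain ⟨a₂⟩ := Hens.exists_henselization_equiv (Localization.AtPrime p) T
  obtain ⟨b₁⟩ := Hens.exists_henselization_equiv (Localization.AtPrime q) T
  obtain ⟨b₂⟩ := Hens.exists_henselization_equiv (Localization.AtPrime q) Bh
  let α := a₁.symm.trans a₂
  let β := b₁.symm.trans b₂
  refine ⟨{ α.toRingEquiv.trans β.toRingEquiv with commutes' := fun c => ?_ }⟩
  show β (α (algebraMap k Ah c)) = algebraMap k Bh c
  rw [IsScalarTower.algebraMap_apply k (Localization.AtPrime p) Ah, AlgEquiv.commutes,
    IsScalarTower.algebraMap_apply k (Localization.AtPrime q) Bh, ← β.commutes]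
  refine congrArg β (congrArg (algebraMap (U.presheaf.stalk u) T) ?_)
  show (ArtinApproxH7.sm e heu).hom (sX.symm _) = (ArtinApproxH7.sm f hfu).hom (sY.symm _)
  rw [IsScalarTower.algebraMap_apply k A (Localization.AtPrime p), IsScalarTower.algebraMap_apply k B (Localization.AtPrime q), stalkEquiv_symm_algebraMap,
    stalkEquiv_symm_algebraMap, sm_toStalk e heu, sm_toStalk f hfu, ← appTop_map, ← appTop_map]
  have := congrArg (fun m : U ⟶ S => m.appTop.hom ((Scheme.ΓSpecIso (.of k)).inv.hom c)) hfg
  simp only [Scheme.Hom.comp_appTop, CommRingCat.hom_comp, RingHom.comp_apply] at this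
  exact congrArg _ this.symm

end Groth.Agent.QuadSing19
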