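import Groth.Agent.Lib.QuadSing19.Hessian
import Groth.Agent.Lib.CplLevelH7.Equiv
import Groth.Agent.Lib.CohenAlg3.Exists
import Mathlib.RingTheory.MvPolynomial.Ideal
import Mathlib.RingTheory.MvPowerSeries.Equiv
import Mathlib.RingTheory.AdicCompletion.Algebra
import Mathlib.RingTheory.Localization.AtPrime.Basic

/-! # The completion of a hypersurface at a rational point -/

set_option autoImplicit false
set_option linter.style.haveILetI false
universe u

open MvPowerSeries IsLocalRing

namespace Groth.Agent.QuadSing19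

variable {k : Type u} [Field k] {n : ℕ}

/-- Taylor expansion at `a`. -/
noncomputable def taylor (a : Fin n → k) : MvPolynomial (Fin n) k →ₐ[k] MvPowerSeries (Fin n) k :=
  MvPolynomial.aeval fun i => MvPowerSeries.X i + MvPowerSeries.C (a i)

/-- Translation. -/
noncomputable def shift (a : Fin n → k) : MvPolynomial (Fin n) k →ₐ[k] MvPolynomial (Fin n) k :=
  MvPolynomial.aeval fun i => MvPolynomial.X i + MvPolynomial.C (a i)

theorem taylor_eq (a : Fin n → k) (p : MvPolynomial (Fin n) k) :
    taylor a p = ((shift a p : MvPolynomial (Fin n) k) : MvPowerSeries (Fin n) k) := by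
  have h : taylor a = (MvPolynomial.coeToMvPowerSeries.algHom k).comp (shift a) :=
    MvPolynomial.algHom_ext fun i => by simp [taylor, shift, MvPolynomial.coeToMvPowerSeries.algHom_apply]
  rw [h]
  simp [MvPolynomial.coeToMvPowerSeries.algHom_apply]

theorem shift_shift (a : Fin n → k) (p : MvPolynomial (Fin n) k) : shift (-a) (shift a p) = p := by
  have h : (shift (-a)).comp (shift a) = AlgHom.id k _ := MvPolynomial.algHom_ext fun i => by simp [shift]
  exact DFunLike.congr_fun h p

theorem shift_shift' (a : Fin n → k) (p : MvPolynomial (Fin n) k) : shift a (shift (-a) p) = p := by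
  simpa using shift_shift (-a) p

theorem constantCoeff_taylor (a : Fin n → k) (p : MvPolynomial (Fin n) k) :
    constantCoeff (taylor a p) = MvPolynomial.eval a p := by
  have h : (constantCoeff (σ := Fin n) (R := k)).comp (taylor a).toRingHom = MvPolynomial.eval a :=
    MvPolynomial.ringHom_ext (fun c => by simp [taylor, ← MvPowerSeries.c_eq_algebraMap]) (fun i => by simp [taylor])
  exact DFunLike.congr_fun h p

theorem pderiv_taylor (a : Fin n → k) (j : Fin n) (p : MvPolynomial (Fin n) k) :
    MvPowerSeries.pderiv k j (taylor a p) = taylor a (MvPolynomial.pderiv j p) := by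
  classical
  induction p using MvPolynomial.induction_on with
  | C c => simp [taylor]
  | add p q hp hq => simp [hp, hq]
  | mul_X p i hp =>
    rw [map_mul, Derivation.leibniz, Derivation.leibniz, smul_eq_mul, smul_eq_mul, smul_eq_mul, smul_eq_mul,
      map_add, map_mul, map_mul, hp, show taylor a (MvPolynomial.X i) = MvPowerSeries.X i + MvPowerSeries.C (a i) by
        simp [taylor], map_add, MvPowerSeries.pderiv_C, add_zero, MvPolynomial.pderiv_X, MvPowerSeries.pderiv_X]
    rcases eq_or_ne i j with rfl | hij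
    · simp
    · simp [hij, hij.symm]

theorem taylor_mem_pow_iff (a : Fin n → k) (m : ℕ) (p : MvPolynomial (Fin n) k) :
    taylor a p ∈ PSIdeal.varIdeal (Fin n) k ^ m ↔
      p ∈ Ideal.span (Set.range fun i => MvPolynomial.X i - MvPolynomial.C (a i)) ^ m := by
  have he : Ideal.span (Set.range fun i => MvPolynomial.X i - MvPolynomial.C (a i)) =
      (MvPolynomial.idealOfVars (Fin n) k).map (shift (-a)) := by
    rw [MvPolynomial.idealOfVars, Ideal.map_span, ← Set.range_comp]
    congr 2
    ext i
    simp [shift, sub_eq_add_neg]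
  rw [he, ← Ideal.map_pow]
  have h1 : p ∈ (MvPolynomial.idealOfVars (Fin n) k ^ m).map (shift (-a)) ↔
      shift a p ∈ MvPolynomial.idealOfVars (Fin n) k ^ m := by
    rw [Ideal.mem_map_iff_of_surjective (shift (-a)) (fun q => ⟨shift a q, shift_shift a q⟩)]
    exact ⟨fun ⟨q, hq, hqp⟩ => by rwa [← hqp, shift_shift'], fun h => ⟨_, h, shift_shift a p⟩⟩
  rw [h1, MvPolynomial.mem_pow_idealOfVars_iff', taylor_eq]
  constructor
  · intro h x hx
    rw [← MvPolynomial.coeff_coe]
    exact H2Alg.PSHom.coeff_eq_zero_of_mem_pow h hx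
  · intro h
    refine H2Alg.PSHom.mem_pow fun d hd => ?_
    rw [MvPolynomial.coeff_coe]
    exact h d hd

theorem exists_taylor_sub_mem (a : Fin n → k) (m : ℕ) (s : MvPowerSeries (Fin n) k) :
    ∃ p : MvPolynomial (Fin n) k, s - taylor a p ∈ PSIdeal.varIdeal (Fin n) k ^ m := by
  refine ⟨shift (-a) (truncTotal m s), H2Alg.PSHom.mem_pow fun d hd => ?_⟩
  rw [taylor_eq, shift_shift', map_sub, MvPolynomial.coeff_coe, coeff_truncTotal _ hd, sub_self]

variable (f : MvPolynomial (Fin n) k) (P : Ideal (MvPolynomial (Fin n) k ⧸ Ideal.span {f})) [P.IsPrime]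

/-- The data of a rational point of a hypersurface. -/
structure IsPoint (a : Fin n → k) : Prop where
  eq : P.comap (Ideal.Quotient.mk (Ideal.span {f})) = RingHom.ker (MvPolynomial.eval a)

variable {f P} {a : Fin n → k}

theorem IsPoint.mem_iff (h : IsPoint f P a) (p : MvPolynomial (Fin n) k) :
    Ideal.Quotient.mk (Ideal.span {f}) p ∈ P ↔ MvPolynomial.eval a p = 0 :=
  (SetLike.ext_iff.1 h.eq p)

theorem IsPoint.eval_eq_zero (h : IsPoint f P a) : MvPolynomial.eval a f = 0 :=
  (h.mem_iff f).1 (by rw [Ideal.Quotient.eq_zero_iff_mem.2 (Ideal.mem_span_singleton_self f)]; exact zero_mem _)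

theorem IsPoint.span_le (h : IsPoint f P a) :
    (Ideal.span (Set.range fun i => MvPolynomial.X i - MvPolynomial.C (a i))).map (Ideal.Quotient.mk (Ideal.span {f})) ≤ P := by
  rw [Ideal.map_le_iff_le_comap, h.eq, Ideal.span_le]
  rintro _ ⟨i, rfl⟩
  simp

/-- The expansion map of the local ring of a hypersurface at a rational point. -/
theorem exists_expansion (h : IsPoint f P a) :
    ∃ χ : Localization.AtPrime P →ₐ[k] (MvPowerSeries (Fin n) k ⧸ Ideal.span {taylor a f}),
      (∀ p, χ (algebraMap _ _ (Ideal.Quotient.mk (Ideal.span {f}) p)) = Ideal.Quotient.mk _ (taylor a p)) ∧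
      (∀ m z, χ z ∈ (PSIdeal.varIdeal (Fin n) k ^ m).map (Ideal.Quotient.mk (Ideal.span {taylor a f})) →
        z ∈ maximalIdeal (Localization.AtPrime P) ^ m) ∧
      Nonempty (AdicCompletion (R := Localization.AtPrime P) (maximalIdeal (Localization.AtPrime P)) (Localization.AtPrime P) ≃ₐ[k]
        MvPowerSeries (Fin n) k ⧸ Ideal.span {taylor a f}) := by
  let B := MvPolynomial (Fin n) k ⧸ Ideal.span {f}
  let g := taylor a f
  let R := MvPowerSeries (Fin n) k ⧸ Ideal.span {g}
  let χ₀ : B →ₐ[k] R := Ideal.Quotient.liftₐ _ ((Ideal.Quotient.mkₐ k _).comp (taylor a)) fun x hx => by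
    obtain ⟨c, rfl⟩ := Ideal.mem_span_singleton'.1 hx
    show Ideal.Quotient.mk _ (taylor a (c * f)) = 0
    rw [map_mul, map_mul, Ideal.Quotient.eq_zero_iff_mem.2 (Ideal.mem_span_singleton_self g), mul_zero]
  have hg0 : constantCoeff g = 0 := (constantCoeff_taylor a f).trans h.eval_eq_zero
  haveI : Nontrivial R := Ideal.Quotient.nontrivial_iff.2 fun e => by
    obtain ⟨c, hc⟩ := Ideal.mem_span_singleton'.1 (e ▸ Submodule.mem_top : (1 : MvPowerSeries (Fin n) k) ∈ Ideal.span {g})
    have := congrArg constantCoeff hc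
    simp [hg0] at this
  haveI : IsLocalRing R := IsLocalRing.of_surjective' _ Ideal.Quotient.mk_surjective
  have hu : ∀ y : P.primeCompl, IsUnit (χ₀ y) := by
    rintro ⟨y, hy⟩
    obtain ⟨p, rfl⟩ := Ideal.Quotient.mk_surjective y
    have hp : MvPolynomial.eval a p ≠ 0 := fun e => hy ((h.mem_iff p).2 e)
    exact (isUnit_iff_constantCoeff.2 (isUnit_iff_ne_zero.2 (show constantCoeff (taylor a p) ≠ 0 by rw [constantCoeff_taylor]; exact hp))).map
      (Ideal.Quotient.mk (Ideal.span {g}))
  let χ : Localization.AtPrime P →ₐ[k] R := IsLocalization.liftAlgHom (M := P.primeCompl) (f := χ₀) hu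
  have hχ : ∀ p, χ (algebraMap _ _ (Ideal.Quotient.mk (Ideal.span {f}) p)) = Ideal.Quotient.mk _ (taylor a p) :=
    fun p => IsLocalization.lift_eq _ _
  let V := PSIdeal.varIdeal (Fin n) k
  have hinj : ∀ m z, χ z ∈ (V ^ m).map (Ideal.Quotient.mk (Ideal.span {g})) →
      z ∈ maximalIdeal (Localization.AtPrime P) ^ m := by
    intro m z hz
    obtain ⟨b, s, rfl⟩ := IsLocalization.exists_mk'_eq P.primeCompl z
    have hb : χ (algebraMap _ _ b) ∈ (V ^ m).map (Ideal.Quotient.mk (Ideal.span {g})) := by
      rw [← IsLocalization.mk'_spec (Localization.AtPrime P) b s, map_mul]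
      exact Ideal.mul_mem_right _ _ hz
    obtain ⟨p, rfl⟩ := Ideal.Quotient.mk_surjective b
    rw [hχ, Ideal.mem_map_iff_of_surjective _ Ideal.Quotient.mk_surjective] at hb
    obtain ⟨v, hv, hvp⟩ := hb
    obtain ⟨c, hc⟩ := Ideal.mem_span_singleton'.1 (Ideal.Quotient.eq.1 hvp.symm)
    obtain ⟨c', hc'⟩ := exists_taylor_sub_mem a m c
    have hmem : taylor a (p - c' * f) ∈ V ^ m := by
      have : taylor a (p - c' * f) = v + (c - taylor a c') * g := by
        rw [map_sub, map_mul, sub_mul, hc]; ring
      rw [this]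
      exact add_mem hv (Ideal.mul_mem_right _ _ hc')
    have hPm : Ideal.Quotient.mk (Ideal.span {f}) p ∈ P ^ m := by
      have h1 := Ideal.mem_map_of_mem (Ideal.Quotient.mk (Ideal.span {f})) ((taylor_mem_pow_iff a m _).1 hmem)
      rw [Ideal.map_pow] at h1
      have h2 := Ideal.pow_right_mono h.span_le m h1
      rwa [map_sub, map_mul, Ideal.Quotient.eq_zero_iff_mem.2 (Ideal.mem_span_singleton_self f), mul_zero,
        sub_zero] at h2
    rw [IsLocalization.mk'_eq_mul_mk'_one]
    refine Ideal.mul_mem_right _ _ ?_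
    rw [← IsLocalization.AtPrime.map_eq_maximalIdeal P (Localization.AtPrime P), ← Ideal.map_pow]
    exact Ideal.mem_map_of_mem _ hPm
  refine ⟨χ, hχ, hinj, ?_⟩
  letI : Algebra B R := (χ.toRingHom.comp (algebraMap B (Localization.AtPrime P))).toAlgebra
  let χB : Localization.AtPrime P →ₐ[B] R := { χ.toRingHom with commutes' := fun b => rfl }
  haveI : IsScalarTower k B R := IsScalarTower.of_algebraMap_eq (R := k) (S := B) (A := R) fun c => by
    show _ = χ (algebraMap B (Localization.AtPrime P) (algebraMap k B c))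
    rw [← IsScalarTower.algebraMap_apply k B (Localization.AtPrime P), AlgHom.commutes]
  have hmO : P.map (algebraMap B (Localization.AtPrime P)) = maximalIdeal (Localization.AtPrime P) :=
    IsLocalization.AtPrime.map_eq_maximalIdeal P _
  have hmR : maximalIdeal R = V.map (Ideal.Quotient.mk (Ideal.span {g})) := by
    show _ = (PSIdeal.varIdeal (Fin n) k).map _
    rw [PSIdeal.varIdeal_eq_maximalIdeal]
    exact (IsLocalRing.map_maximalIdeal_of_surjective _ Ideal.Quotient.mk_surjective).symm
  have hPR : P.map (algebraMap B R) = maximalIdeal R := by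
    refine le_antisymm (Ideal.map_le_iff_le_comap.2 fun b hb => ?_) ?_
    · obtain ⟨p, rfl⟩ := Ideal.Quotient.mk_surjective b
      rw [Ideal.mem_comap, hmR]
      show χ _ ∈ _
      rw [hχ]
      exact Ideal.mem_map_of_mem _ (PSIdeal.mem_varIdeal (by rw [constantCoeff_taylor]; exact (h.mem_iff p).1 hb))
    · rw [hmR, Ideal.map_le_iff_le_comap]
      refine Ideal.span_le.2 ?_
      rintro _ ⟨i, rfl⟩
      have := Ideal.mem_map_of_mem (algebraMap B R) (h.span_le (Ideal.mem_map_of_mem _ (Ideal.subset_span ⟨i, rfl⟩)))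
      rw [show algebraMap B R (Ideal.Quotient.mk _ (MvPolynomial.X i - MvPolynomial.C (a i))) = _ from hχ _] at this
      simpa [taylor, MvPowerSeries.c_eq_algebraMap] using this
  have hbij : ∀ m, Function.Bijective (CplLevelH7.lev (B := Localization.AtPrime P) (T := R) P χB m) := by
    intro m
    constructor
    · rw [injective_iff_map_eq_zero]
      intro x hx
      obtain ⟨z, rfl⟩ := Ideal.Quotient.mk_surjective x
      rw [CplLevelH7.lev_mk, Ideal.Quotient.eq_zero_iff_mem, hPR, hmR, ← Ideal.map_pow] at hx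
      rw [Ideal.Quotient.eq_zero_iff_mem, hmO]
      exact hinj m z hx
    · intro y
      obtain ⟨y, rfl⟩ := Ideal.Quotient.mk_surjective y
      obtain ⟨s, rfl⟩ := Ideal.Quotient.mk_surjective y
      obtain ⟨p, hp⟩ := exists_taylor_sub_mem a m s
      refine ⟨Ideal.Quotient.mk _ (algebraMap _ _ (Ideal.Quotient.mk (Ideal.span {f}) p)), ?_⟩
      rw [CplLevelH7.lev_mk, Ideal.Quotient.eq, hPR, hmR, ← Ideal.map_pow]
      show χ _ - _ ∈ _
      rw [hχ, ← map_sub]
      exact Ideal.mem_map_of_mem _ (by simpa using neg_mem hp)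
  haveI : IsAdicComplete (maximalIdeal (MvPowerSeries (Fin n) k)) (MvPowerSeries (Fin n) k) := by
    rw [← PSIdeal.varIdeal_eq_maximalIdeal]
    exact ({ toIsHausdorff := inferInstance, toIsPrecomplete := inferInstance } :
      IsAdicComplete (H2Alg.PSHom.V n k) (MvPowerSeries (Fin n) k))
  haveI : IsAdicComplete (maximalIdeal R) R := CohenAlg3.isAdicComplete_quotient (Ideal.span {g})
  have he := CplLevelH7.exists_cplEquiv (B := Localization.AtPrime P) (T := R) P χB hbij
  rw [hPR, hmO] at he
  exact he.elim fun e => ⟨(e.restrictScalars k).trans ((AdicCompletion.ofAlgEquiv (maximalIdeal R)).symm.restrictScalars k)⟩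

end Groth.Agent.QuadSing19
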