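import Groth.Agent.Lib.QuadSing19.Point
import Groth.Agent.Lib.Morse19.Basic
import Mathlib.RingTheory.AdicCompletion.Basic
import Mathlib.RingTheory.Nakayama

/-! # Solving a quadratic equation near a system of parameters in a complete local ring -/

set_option autoImplicit false
set_option linter.style.haveILetI false
universe u

open IsLocalRing

namespace Groth.Agent.QuadSing19

variable {R : Type u} [CommRing R] [IsLocalRing R] [IsNoetherianRing R] {N : ℕ}

theorem span_range_eq_of_sub_mem (y y' : Fin N → R) (hy : Ideal.span (Set.range y) = maximalIdeal R)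
    (h : ∀ i, y' i - y i ∈ maximalIdeal R ^ 2) : Ideal.span (Set.range y') = maximalIdeal R := by
  have hmem : ∀ i, y' i ∈ maximalIdeal R := fun i => by
    have h1 := Ideal.pow_le_self two_ne_zero (h i)
    have h2 : y i ∈ maximalIdeal R := hy ▸ Ideal.subset_span ⟨i, rfl⟩
    simpa using add_mem h1 h2
  refine le_antisymm (Ideal.span_le.2 (by rintro _ ⟨i, rfl⟩; exact hmem i)) ?_
  refine Submodule.le_of_le_smul_of_le_jacobson_bot (IsNoetherian.noetherian _)
    (IsLocalRing.maximalIdeal_le_jacobson ⊥) ?_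
  conv_lhs => rw [← hy]
  refine Ideal.span_le.2 ?_
  rintro _ ⟨i, rfl⟩
  rw [SetLike.mem_coe, ← sub_sub_cancel (y' i) (y i)]
  exact sub_mem (Ideal.mem_sup_left (Ideal.subset_span ⟨i, rfl⟩))
    (Ideal.mem_sup_right (by rw [smul_eq_mul, ← pow_two]; exact h i))

/-- The decomposition property making the iteration work. -/
def Splits (a : Fin N → Fin N → R) : Prop :=
  ∀ y : Fin N → R, Ideal.span (Set.range y) = maximalIdeal R → ∀ r, 3 ≤ r → ∀ x ∈ maximalIdeal R ^ r,
    ∃ (w : R) (δ : Fin N → R), w ∈ maximalIdeal R ^ (r - 2) ∧ (∀ i, δ i ∈ maximalIdeal R ^ (r - 1)) ∧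
      x = w * VanCyc.quadEval a y + ∑ i, y i * (VanCyc.polarMatrix a).mulVec δ i

theorem quadEval_mem (a : Fin N → Fin N → R) {I : Ideal R} {δ : Fin N → R} (hδ : ∀ i, δ i ∈ I) :
    VanCyc.quadEval a δ ∈ I ^ 2 := by
  refine sum_mem fun i _ => sum_mem fun j _ => ?_
  split
  · rw [pow_two, mul_assoc]
    exact Ideal.mul_mem_left _ _ (Ideal.mul_mem_mul (hδ i) (hδ j))
  · exact zero_mem _

/-- Newton iteration. -/
theorem exists_quadEval_eq_zero [IsAdicComplete (maximalIdeal R) R] (a : Fin N → Fin N → R) (ha : Splits a)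
    (y₀ : Fin N → R) (hy₀ : Ideal.span (Set.range y₀) = maximalIdeal R)
    (h₀ : VanCyc.quadEval a y₀ ∈ maximalIdeal R ^ 3) :
    ∃ y : Fin N → R, VanCyc.quadEval a y = 0 ∧ ∀ i, y i - y₀ i ∈ maximalIdeal R ^ 2 := by
  let m := maximalIdeal R
  have step : ∀ t : ℕ, ∀ y : Fin N → R, (∀ i, y i - y₀ i ∈ m ^ 2) → VanCyc.quadEval a y ∈ m ^ (t + 3) →
      ∃ y' : Fin N → R, (∀ i, y' i - y₀ i ∈ m ^ 2) ∧ (∀ i, y' i - y i ∈ m ^ (t + 2)) ∧
        VanCyc.quadEval a y' ∈ m ^ (t + 1 + 3) := by
    intro t y hy hq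
    obtain ⟨w, δ, hw, hδ, he⟩ := ha y (span_range_eq_of_sub_mem y₀ y hy₀ hy) (t + 3) (by omega) _ hq
    have hδ' : ∀ i, (-δ) i ∈ m ^ (t + 2) := fun i => neg_mem (hδ i)
    refine ⟨y + -δ, fun i => ?_, fun i => by simpa using hδ' i, ?_⟩
    · rw [Pi.add_apply, add_sub_right_comm]
      exact add_mem (hy i) (Ideal.pow_le_pow_right (by omega) (hδ' i))
    · rw [Morse19.quadEval_add, Matrix.mulVec_neg]
      simp only [Pi.neg_apply, mul_neg, Finset.sum_neg_distrib]
      rw [show VanCyc.quadEval a y + -(∑ i, y i * (VanCyc.polarMatrix a).mulVec δ i) = w * VanCyc.quadEval a y from by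
        linear_combination he]
      refine add_mem (Ideal.pow_le_pow_right (show t + 1 + 3 ≤ (t + 3 - 2) + (t + 3) by omega) ?_)
        (Ideal.pow_le_pow_right (show t + 1 + 3 ≤ (t + 2) * 2 by omega) ?_)
      · rw [pow_add]; exact Ideal.mul_mem_mul hw hq
      · rw [pow_mul]; exact quadEval_mem a hδ'
  let P : ℕ → (Fin N → R) → Prop := fun t y => (∀ i, y i - y₀ i ∈ m ^ 2) ∧ VanCyc.quadEval a y ∈ m ^ (t + 3)
  choose nx h1 h2 h3 using step
  let s : ∀ t : ℕ, {y : Fin N → R // P t y} := fun t => Nat.rec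
    ⟨y₀, fun i => by simp, h₀⟩
    (fun t y => ⟨nx t y.1 y.2.1 y.2.2, h1 t y.1 y.2.1 y.2.2, h3 t y.1 y.2.1 y.2.2⟩) t
  have hstep : ∀ t i, (s (t + 1)).1 i - (s t).1 i ∈ m ^ (t + 2) := fun t i => h2 t _ _ _ i
  have hcauchy : ∀ i {p q : ℕ}, p ≤ q → (s p).1 i ≡ (s q).1 i [SMOD (m ^ p • ⊤ : Submodule R R)] := by
    intro i p q hpq
    rw [SModEq.sub_mem, smul_eq_mul, Ideal.mul_top]
    induction q, hpq using Nat.le_induction with
    | base => simp
    | succ q hpq ih =>
      have := sub_mem ih (Ideal.pow_le_pow_right (show p ≤ q + 2 by omega) (hstep q i))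
      rwa [show (s p).1 i - (s q).1 i - ((s (q + 1)).1 i - (s q).1 i) = (s p).1 i - (s (q + 1)).1 i by ring] at this
  choose y hy using fun i => IsPrecomplete.prec (I := m) (M := R) inferInstance (hcauchy i)
  have hy' : ∀ t i, (s t).1 i - y i ∈ m ^ t := fun t i => by
    have := hy i t
    rwa [SModEq.sub_mem, smul_eq_mul, Ideal.mul_top] at this
  refine ⟨y, IsHausdorff.haus (I := m) inferInstance _ fun t => ?_, fun i => ?_⟩
  · rw [SModEq.zero, smul_eq_mul, Ideal.mul_top]
    have hd : ∀ i, (y - (s t).1) i ∈ m ^ t := fun i => by simpa using neg_mem (hy' t i)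
    rw [show y = (s t).1 + (y - (s t).1) by simp, Morse19.quadEval_add]
    refine add_mem (add_mem (Ideal.pow_le_pow_right (by omega) (s t).2.2) (sum_mem fun i _ => ?_)) ?_
    · refine Ideal.mul_mem_left _ _ ?_
      simp only [Matrix.mulVec, dotProduct]
      exact sum_mem fun j _ => Ideal.mul_mem_left _ _ (hd j)
    · exact Ideal.pow_le_self two_ne_zero (quadEval_mem a hd)
  · have h4 := sub_mem ((s 2).2.1 i) (hy' 2 i)
    simpa using h4

/-- A non-degenerate form, or a square plus a non-degenerate form, splits. -/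
theorem splits_of_partialInverse (a : Fin N → Fin N → R) (B : Matrix (Fin N) (Fin N) R) (e : Option (Fin N))
    (hB : ∀ y : Fin N → R, ∀ i, e ≠ some i → ∑ j, (VanCyc.polarMatrix a).mulVec (B i) j * y j = y i)
    (he : ∀ i₀, e = some i₀ → ∀ y : Fin N → R, ∃ z : Fin N → R, (∀ i, z i ∈ Ideal.span (Set.range y)) ∧ z i₀ = 0 ∧
      VanCyc.quadEval a y = y i₀ * y i₀ + ∑ i, z i * y i) :
    Splits a := by
  classical
  intro y hy r hr x hx
  let m := maximalIdeal R
  have hym : ∀ i, y i ∈ m := fun i => (show maximalIdeal R = m from rfl) ▸ hy ▸ Ideal.subset_span ⟨i, rfl⟩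
  -- elements `y i * g` with `i` not exceptional
  let J : Ideal R := Ideal.span (y '' {i | e ≠ some i})
  have hcore : ∀ x ∈ J * m ^ (r - 1), ∃ δ : Fin N → R, (∀ i, δ i ∈ m ^ (r - 1)) ∧
      x = ∑ i, y i * (VanCyc.polarMatrix a).mulVec δ i := by
    intro x hx
    induction hx using Submodule.mul_induction_on' with
    | mem_mul_mem p hp q hq =>
      induction hp using Submodule.span_induction generalizing q with
      | mem p hp =>
        obtain ⟨i, hi, rfl⟩ := hp
        refine ⟨q • B i, fun j => Ideal.mul_mem_right _ _ hq, ?_⟩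
        rw [Matrix.mulVec_smul, ← hB y i hi, Finset.sum_mul]
        refine Finset.sum_congr rfl fun j _ => ?_
        simp only [Pi.smul_apply, smul_eq_mul]
        ring
      | zero => exact ⟨0, fun i => zero_mem _, by simp⟩
      | add p p' _ _ h h' =>
        obtain ⟨d, hd, he⟩ := h q hq
        obtain ⟨d', hd', he'⟩ := h' q hq
        exact ⟨d + d', fun i => add_mem (hd i) (hd' i), by
          rw [add_mul, he, he', Matrix.mulVec_add, ← Finset.sum_add_distrib]
          simp [mul_add]⟩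
      | smul c p _ h =>
        obtain ⟨d, hd, he⟩ := h (c * q) (Ideal.mul_mem_left _ _ hq)
        exact ⟨d, hd, by rw [smul_eq_mul, ← he]; ring⟩
    | add p _ q _ h h' =>
      obtain ⟨d, hd, he⟩ := h
      obtain ⟨d', hd', he'⟩ := h'
      exact ⟨d + d', fun i => add_mem (hd i) (hd' i), by
        rw [he, he', Matrix.mulVec_add, ← Finset.sum_add_distrib]
        simp [mul_add]⟩
  rcases e with _ | i₀
  · have hJ : J = m := by
      show Ideal.span _ = _
      rw [show maximalIdeal R = m from rfl] at hy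
      rw [← hy]; congr 1; simp [Set.image_univ]
    obtain ⟨δ, hδ, hx'⟩ := hcore x (by rw [hJ, ← pow_succ']; rwa [Nat.sub_add_cancel (by omega)])
    exact ⟨0, δ, zero_mem _, hδ, by rw [zero_mul, zero_add]; exact hx'⟩
  · obtain ⟨z, hz, hz0, hq⟩ := he i₀ rfl y
    have hJy : ∀ i, i ≠ i₀ → y i ∈ J := fun i hi => Ideal.subset_span ⟨i, fun h => hi (Option.some.inj h).symm, rfl⟩
    -- powers of `m` are powers of the exceptional coordinate modulo `J`
    have hpow : ∀ s, m ^ s ≤ Ideal.span {y i₀ ^ s} ⊔ J * m ^ (s - 1) := by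
      intro s
      induction s with
      | zero => simp
      | succ s ih =>
        rw [pow_succ']
        have hm : m ≤ Ideal.span {y i₀} ⊔ J := by
          show maximalIdeal R ≤ _
          rw [← hy, Ideal.span_le]
          rintro _ ⟨i, rfl⟩
          by_cases hi : i = i₀
          · exact Ideal.mem_sup_left (hi ▸ Ideal.mem_span_singleton_self _)
          · exact Ideal.mem_sup_right (hJy i hi)
        refine Ideal.mul_le.2 fun p hp q hq => ?_
        obtain ⟨p₁, hp₁, p₂, hp₂, rfl⟩ := Submodule.mem_sup.1 (hm hp)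
        rw [add_mul]
        refine add_mem ?_ (Ideal.mem_sup_right (Ideal.mul_mem_mul hp₂ (by simpa using hq)))
        obtain ⟨c, rfl⟩ := Ideal.mem_span_singleton'.1 hp₁
        obtain ⟨q₁, hq₁, q₂, hq₂, rfl⟩ := Submodule.mem_sup.1 (ih hq)
        rw [mul_add]
        refine add_mem (Ideal.mem_sup_left ?_) (Ideal.mem_sup_right ?_)
        · obtain ⟨d, rfl⟩ := Ideal.mem_span_singleton'.1 hq₁
          exact Ideal.mem_span_singleton'.2 ⟨c * d, by ring⟩
        · rcases Nat.eq_zero_or_pos s with rfl | hs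
          · simp only [Nat.zero_sub, Nat.zero_add, Nat.sub_self, pow_zero, Ideal.one_eq_top, Ideal.mul_top] at hq₂ ⊢
            exact Ideal.mul_mem_left _ _ hq₂
          · have h1 : m * (J * m ^ (s - 1)) ≤ J * m ^ (s + 1 - 1) := le_of_eq (by
              rw [← mul_assoc, mul_comm m J, mul_assoc, ← pow_succ', Nat.sub_add_cancel hs, Nat.add_sub_cancel])
            exact h1 (Ideal.mul_mem_mul (Ideal.mul_mem_left _ _ (hym i₀)) hq₂)
    obtain ⟨x₁, hx₁, x₂, hx₂, rfl⟩ := Submodule.mem_sup.1 (hpow r hx)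
    obtain ⟨c, rfl⟩ := Ideal.mem_span_singleton'.1 hx₁
    let w := c * y i₀ ^ (r - 2)
    have hw : w ∈ m ^ (r - 2) := Ideal.mul_mem_left _ _ (Ideal.pow_mem_pow (hym i₀) _)
    have hrest : c * y i₀ ^ r + x₂ - w * VanCyc.quadEval a y ∈ J * m ^ (r - 1) := by
      have : c * y i₀ ^ r + x₂ - w * VanCyc.quadEval a y = x₂ - ∑ i, y i * (w * z i) := by
        rw [hq, show c * y i₀ ^ r = w * (y i₀ * y i₀) by
          simp only [w]
          rw [mul_assoc, ← pow_two, ← pow_add, Nat.sub_add_cancel (by omega)], mul_add, Finset.mul_sum]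
        rw [show ∑ i, w * (z i * y i) = ∑ i, y i * (w * z i) from Finset.sum_congr rfl fun i _ => by ring]
        ring
      rw [this]
      refine sub_mem hx₂ (sum_mem fun i _ => ?_)
      by_cases hi : i = i₀
      · rw [hi, hz0, mul_zero, mul_zero]; exact zero_mem _
      · refine Ideal.mul_mem_mul (hJy i hi) ?_
        rw [show r - 1 = (r - 2) + 1 by omega, pow_succ]
        exact Ideal.mul_mem_mul hw ((show maximalIdeal R = m from rfl) ▸ hy ▸ hz i)
    obtain ⟨δ, hδ, hx'⟩ := hcore _ hrest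
    exact ⟨w, δ, hw, hδ, by linear_combination hx'⟩

end Groth.Agent.QuadSing19
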